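import Cfsg.Agent.Lib.H04.Col.Gen
import Cfsg.Agent.Lib.H04.Tw.D4O
import Cfsg.Agent.Lib.H04.Tw.D4P

/-!
# Collected words of `D₄` in characteristic two
-/

set_option autoImplicit false
set_option linter.style.longLine false
set_option linter.unusedSimpArgs false
set_option linter.unusedSectionVars false
set_option linter.unusedVariables false
set_option maxRecDepth 100000

open Cfsg.Lie Cfsg.Agent.H04.Chev Cfsg.Agent.H04.Long
open Cfsg.Agent.H04.Chev.TD4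

namespace Cfsg.Agent.H04.Col.D4

variable {K : Type*} [Field K]

/-- the twisted normal form -/
noncomputable def Q (s t0 t1 t2 v0 v1 v2 w0 w1 w2 y z : K) : GL chevD4.Idx K :=
  wordG checks [(14, s), (18, t0), (13, t1), (12, t2), (15, v0), (19, v1), (16, v2), (17, w0), (20, w1), (21, w2), (22, y), (23, z)]

/-- the normal form in the order of the roots -/
noncomputable def P12 (a0 a1 a2 a3 a4 a5 a6 a7 a8 a9 a10 a11 : K) : GL chevD4.Idx K :=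
  wordG checks [(12, a0), (13, a1), (14, a2), (15, a3), (16, a4), (17, a5), (18, a6), (19, a7), (20, a8), (21, a9), (22, a10), (23, a11)]

lemma P12_eq (t : ℕ → K) : wordFrom checks 12 t = P12 (t 12) (t 13) (t 14) (t 15) (t 16) (t 17) (t 18) (t 19) (t 20) (t 21) (t 22) (t 23) := rfl

def cf (a0 a1 a2 a3 a4 a5 a6 a7 a8 a9 a10 a11 : K) : ℕ → K := fun r => R [a0, a1, a2, a3, a4, a5, a6, a7, a8, a9, a10, a11] (r - 12)

lemma P12_eq' (a0 a1 a2 a3 a4 a5 a6 a7 a8 a9 a10 a11 : K) : P12 a0 a1 a2 a3 a4 a5 a6 a7 a8 a9 a10 a11 = wordFrom checks 12 (cf a0 a1 a2 a3 a4 a5 a6 a7 a8 a9 a10 a11) := rfl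

lemma P12_inj {a0 a1 a2 a3 a4 a5 a6 a7 a8 a9 a10 a11 b0 b1 b2 b3 b4 b5 b6 b7 b8 b9 b10 b11 : K}
    (h : P12 a0 a1 a2 a3 a4 a5 a6 a7 a8 a9 a10 a11 = P12 b0 b1 b2 b3 b4 b5 b6 b7 b8 b9 b10 b11) :
    a0 = b0 ∧ a1 = b1 ∧ a2 = b2 ∧ a3 = b3 ∧ a4 = b4 ∧ a5 = b5 ∧ a6 = b6 ∧ a7 = b7 ∧ a8 = b8 ∧ a9 = b9 ∧ a10 = b10 ∧ a11 = b11 := by
  rw [P12_eq', P12_eq'] at h
  have h1 := wordFrom_inj checks checks2 12 (m := 12) rfl (by decide) h
  exact ⟨h1 12 (by omega) (by decide), h1 13 (by omega) (by decide), h1 14 (by omega) (by decide), h1 15 (by omega) (by decide), h1 16 (by omega) (by decide), h1 17 (by omega) (by decide), h1 18 (by omega) (by decide), h1 19 (by omega) (by decide), h1 20 (by omega) (by decide), h1 21 (by omega) (by decide), h1 22 (by omega) (by decide), h1 23 (by omega) (by decide)⟩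

lemma P12_zero : P12 (0 : K) 0 0 0 0 0 0 0 0 0 0 0 = 1 := by simp [P12]

lemma Q_zero : Q (0 : K) 0 0 0 0 0 0 0 0 0 0 0 = 1 := by simp [Q]

lemma P12_one_inj {a0 a1 a2 a3 a4 a5 a6 a7 a8 a9 a10 a11 : K}
    (h : P12 a0 a1 a2 a3 a4 a5 a6 a7 a8 a9 a10 a11 = 1) :
    a0 = 0 ∧ a1 = 0 ∧ a2 = 0 ∧ a3 = 0 ∧ a4 = 0 ∧ a5 = 0 ∧ a6 = 0 ∧ a7 = 0 ∧ a8 = 0 ∧ a9 = 0 ∧ a10 = 0 ∧ a11 = 0 :=
  P12_inj (h.trans P12_zero.symm)

lemma exists_P12 {g : GL chevD4.Idx K} (hg : g ∈ chevD4.posUnipotent K) : ∃ a0 a1 a2 a3 a4 a5 a6 a7 a8 a9 a10 a11 : K, g = P12 a0 a1 a2 a3 a4 a5 a6 a7 a8 a9 a10 a11 := by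
  rw [posUnipotent_eq checks checks2] at hg
  obtain ⟨t, rfl⟩ := exists_wordFrom checks checks2 12 (m := 12) rfl (by decide) hg
  exact ⟨_, _, _, _, _, _, _, _, _, _, _, _, P12_eq t⟩

variable [CharP K 2]

lemma sq0 (s t0 t1 t2 v0 v1 v2 w0 w1 w2 y z : K) : Q s t0 t1 t2 v0 v1 v2 w0 w1 w2 y z * Q s t0 t1 t2 v0 v1 v2 w0 w1 w2 y z = P12 0 0 0 (s * t2) (s * t1) (s * (t1 * t2) + (t1 * v0 + t2 * v2)) 0 (s * t0) (s * (t0 * t2) + (t0 * v0 + t2 * v1)) (s * (t0 * t1) + (t0 * v2 + t1 * v1)) (s * (t0 * (t1 * t2)) + (t0 * (t1 * v0) + (t0 * (t2 * v2) + (t0 * w0 + (t1 * (t2 * v1) + (t1 * w1 + t2 * w2)))))) (s * (t0 * (t1 * v0)) + (s * (t0 * (t2 * v2)) + (s * y + (t0 * (v0 * v2) + (t1 * (v0 * v1) + (t2 * (v1 * v2) + (v0 * w2 + (v1 * w0 + v2 * w1)))))))) := by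
  have h := word_eq checks (R [s, t0, t1, t2, v0, v1, v2, w0, w1, w2, y, z, 0, 0, 0, 0, 0, 0, 0, 0, 0, 0, 0, 0, 0, 0, 0, 0, 0, 0, 0, 0]) (tab := chevD4.commTerms) (fun _ _ _ _ => rfl) 29 (w₁ := [(14, [[0]]), (18, [[1]]), (13, [[2]]), (12, [[3]]), (15, [[4]]), (19, [[5]]), (16, [[6]]), (17, [[7]]), (20, [[8]]), (21, [[9]]), (22, [[10]]), (23, [[11]]), (14, [[0]]), (18, [[1]]), (13, [[2]]), (12, [[3]]), (15, [[4]]), (19, [[5]]), (16, [[6]]), (17, [[7]]), (20, [[8]]), (21, [[9]]), (22, [[10]]), (23, [[11]])]) (w₂ := [(12, []), (13, []), (14, []), (15, [[0, 3]]), (16, [[0, 2]]), (17, [[0, 2, 3], [2, 4], [3, 6]]), (18, []), (19, [[0, 1]]), (20, [[0, 1, 3], [1, 4], [3, 5]]), (21, [[0, 1, 2], [1, 6], [2, 5]]), (22, [[0, 1, 2, 3], [1, 2, 4], [1, 3, 6], [1, 7], [2, 3, 5], [2, 8], [3, 9]]), (23, [[0, 1, 2, 4], [0, 1, 3, 6], [0, 10], [1, 4, 6], [2, 4, 5], [3, 5, 6], [4, 9], [5, 7], [6,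 8]])]) (by decide +kernel)
  simpa only [evW, R, evP_cons, evP_nil, evM_cons, evM_nil, List.map_cons, List.map_nil, wordG_cons, wordG_nil, mul_assoc, mul_one, add_zero, xG_zero, one_mul, Q, P12] using h

lemma A_sq1 (t0 t1 t2 v0 v1 v2 w0 w1 w2 y z : K) : Q 0 t0 t1 t2 v0 v1 v2 w0 w1 w2 y z * Q 0 t0 t1 t2 v0 v1 v2 w0 w1 w2 y z = P12 0 0 0 0 0 (t1 * v0 + t2 * v2) 0 0 (t0 * v0 + t2 * v1) (t0 * v2 + t1 * v1) (t0 * (t1 * v0) + (t0 * (t2 * v2) + (t0 * w0 + (t1 * (t2 * v1) + (t1 * w1 + t2 * w2))))) (t0 * (v0 * v2) + (t1 * (v0 * v1) + (t2 * (v1 * v2) + (v0 * w2 + (v1 * w0 + v2 * w1))))) := by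
  have h := word_eq checks (R [0, t0, t1, t2, v0, v1, v2, w0, w1, w2, y, z, 0, 0, 0, 0, 0, 0, 0, 0, 0, 0, 0, 0, 0, 0, 0, 0, 0, 0, 0, 0]) (tab := chevD4.commTerms) (fun _ _ _ _ => rfl) 29 (w₁ := [(14, []), (18, [[1]]), (13, [[2]]), (12, [[3]]), (15, [[4]]), (19, [[5]]), (16, [[6]]), (17, [[7]]), (20, [[8]]), (21, [[9]]), (22, [[10]]), (23, [[11]]), (14, []), (18, [[1]]), (13, [[2]]), (12, [[3]]), (15, [[4]]), (19, [[5]]), (16, [[6]]), (17, [[7]]), (20, [[8]]), (21, [[9]]), (22, [[10]]), (23, [[11]])]) (w₂ := [(12, []), (13, []), (14, []), (15, []), (16, []), (17, [[2, 4], [3, 6]]), (18, []), (19, []), (20, [[1, 4], [3, 5]]), (21, [[1, 6], [2, 5]]), (22, [[1, 2, 4], [1, 3, 6], [1, 7], [2, 3, 5], [2, 8], [3, 9]]), (23, [[1, 4, 6], [2, 4, 5], [3, 5, 6], [4, 9], [5, 7], [6, 8]])]) (by decide +kernel)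
  simpa only [evW, R, evP_cons, evP_nil, evM_cons, evM_nil, List.map_cons, List.map_nil, wordG_cons, wordG_nil, mul_assoc, mul_one, add_zero, xG_zero, one_mul, Q, P12] using h

lemma A_mv1 (t0 t1 t2 w0 w1 w2 y z e : K) : (xG checks 14 e) * Q 0 t0 t1 t2 (t2 * e) (t0 * e) (t1 * e) w0 w1 w2 y z * (xG checks 14 e) = Q 0 t0 t1 t2 0 0 0 (t1 * (t2 * e) + w0) (t0 * (t2 * e) + w1) (t0 * (t1 * e) + w2) (t0 * (t1 * (t2 * e)) + y) (t0 * (t1 * (t2 * (e * e))) + (y * e + z)) := by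
  have h := word_eq checks (R [0, t0, t1, t2, 0, 0, 0, w0, w1, w2, y, z, e, 0, 0, 0, 0, 0, 0, 0, 0, 0, 0, 0, 0, 0, 0, 0, 0, 0, 0, 0]) (tab := chevD4.commTerms) (fun _ _ _ _ => rfl) 19 (w₁ := [(14, [[12]]), (14, []), (18, [[1]]), (13, [[2]]), (12, [[3]]), (15, [[3, 12]]), (19, [[1, 12]]), (16, [[2, 12]]), (17, [[7]]), (20, [[8]]), (21, [[9]]), (22, [[10]]), (23, [[11]]), (14, [[12]])]) (w₂ := [(14, []), (18, [[1]]), (13, [[2]]), (12, [[3]]), (15, []), (19, []), (16, []), (17, [[2, 3, 12], [7]]), (20, [[1, 3, 12], [8]]), (21, [[1, 2, 12], [9]]), (22, [[1, 2, 3, 12], [10]]), (23, [[1, 2, 3, 12, 12], [10, 12], [11]])]) (by decide +kernel)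
  simpa only [evW, R, evP_cons, evP_nil, evM_cons, evM_nil, List.map_cons, List.map_nil, wordG_cons, wordG_nil, mul_assoc, mul_one, add_zero, xG_zero, one_mul, Q, P12] using h

lemma A_sq2 (t0 t1 t2 w0 w1 w2 y z : K) : Q 0 t0 t1 t2 0 0 0 w0 w1 w2 y z * Q 0 t0 t1 t2 0 0 0 w0 w1 w2 y z = P12 0 0 0 0 0 0 0 0 0 0 (t0 * w0 + (t1 * w1 + t2 * w2)) 0 := by
  have h := word_eq checks (R [0, t0, t1, t2, 0, 0, 0, w0, w1, w2, y, z, 0, 0, 0, 0, 0, 0, 0, 0, 0, 0, 0, 0, 0, 0, 0, 0, 0, 0, 0, 0]) (tab := chevD4.commTerms) (fun _ _ _ _ => rfl) 29 (w₁ := [(14, []), (18, [[1]]), (13, [[2]]), (12, [[3]]), (15, []), (19, []), (16, []), (17, [[7]]), (20, [[8]]), (21, [[9]]), (22, [[10]]), (23, [[11]]), (14, []), (18, [[1]]), (13, [[2]]), (12, [[3]]), (15, []), (19, []), (16, []), (17, [[7]]), (20, [[8]]), (21, [[9]]), (22, [[10]]), (23, [[11]])]) (w₂ := [(12, []), (13, []), (14, []), (15, []), (16,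 []), (17, []), (18, []), (19, []), (20, []), (21, []), (22, [[1, 7], [2, 8], [3, 9]]), (23, [])]) (by decide +kernel)
  simpa only [evW, R, evP_cons, evP_nil, evM_cons, evM_nil, List.map_cons, List.map_nil, wordG_cons, wordG_nil, mul_assoc, mul_one, add_zero, xG_zero, one_mul, Q, P12] using h

lemma A_mv2 (t0 t1 t2 y z c0 c1 c2 : K) : (xG checks 15 (t2 * c0) * xG checks 19 (t0 * c1) * xG checks 16 (t1 * c2)) * Q 0 t0 t1 t2 0 0 0 (t1 * (t2 * c0) + t1 * (t2 * c2)) (t0 * (t2 * c0) + t0 * (t2 * c1)) (t0 * (t1 * c1) + t0 * (t1 * c2)) y z * (xG checks 15 (t2 * c0) * xG checks 19 (t0 * c1) * xG checks 16 (t1 * c2)) = Q 0 t0 t1 t2 0 0 0 0 0 0 (t0 * (t1 * (t2 * c0)) + (t0 * (t1 * (t2 * c1)) + (t0 * (t1 * (t2 * c2)) + y))) (t0 * (t1 * (t2 * (c0 * c1))) + (t0 * (t1 * (t2 * (c0 * c2))) + (t0 * (t1 * (t2 * (c1 * c2))) + z))) := by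
  have h := word_eq checks (R [0, t0, t1, t2, 0, 0, 0, 0, 0, 0, y, z, 0, 0, 0, 0, 0, c0, c1, c2, 0, 0, 0, 0, 0, 0, 0, 0, 0, 0, 0, 0]) (tab := chevD4.commTerms) (fun _ _ _ _ => rfl) 22 (w₁ := [(15, [[3, 17]]), (19, [[1, 18]]), (16, [[2, 19]]), (14, []), (18, [[1]]), (13, [[2]]), (12, [[3]]), (15, []), (19, []), (16, []), (17, [[2, 3, 17], [2, 3, 19]]), (20, [[1, 3, 17], [1, 3, 18]]), (21, [[1, 2, 18], [1, 2, 19]]), (22, [[10]]), (23, [[11]]), (15, [[3, 17]]), (19, [[1, 18]]), (16, [[2, 19]])]) (w₂ := [(14, []), (18, [[1]]), (13, [[2]]), (12, [[3]]), (15, []), (19, []), (16, []), (17, []), (20, []), (21, []), (22, [[1, 2, 3, 17], [1, 2, 3, 18], [1, 2, 3, 19], [10]]), (23, [[1, 2, 3, 17, 18], [1, 2, 3, 17, 19], [1, 2, 3, 18, 19], [11]])]) (by decide +kernel)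
  simpa only [evW, R, evP_cons, evP_nil, evM_cons, evM_nil, List.map_cons, List.map_nil, wordG_cons, wordG_nil, mul_assoc, mul_one, add_zero, xG_zero, one_mul, Q, P12] using h

lemma A_mv3 (t0 t1 t2 z c0 c1 c2 : K) : (xG checks 17 c0 * xG checks 20 c1 * xG checks 21 c2) * Q 0 t0 t1 t2 0 0 0 0 0 0 (t0 * c0 + (t1 * c1 + t2 * c2)) z * (xG checks 17 c0 * xG checks 20 c1 * xG checks 21 c2) = Q 0 t0 t1 t2 0 0 0 0 0 0 0 z := by
  have h := word_eq checks (R [0, t0, t1, t2, 0, 0, 0, 0, 0, 0, 0, z, 0, 0, 0, 0, 0, c0, c1, c2, 0, 0, 0, 0, 0, 0, 0, 0, 0, 0, 0, 0]) (tab := chevD4.commTerms) (fun _ _ _ _ => rfl) 21 (w₁ := [(17, [[17]]), (20, [[18]]), (21, [[19]]), (14, []), (18, [[1]]), (13, [[2]]), (12, [[3]]), (15, []), (19, []), (16, []), (17, []), (20, []), (21, []), (22, [[1, 17], [2, 18], [3, 19]]), (23, [[11]]), (17, [[17]]), (20, [[18]]), (21, [[19]])]) (w₂ := [(14, []), (18, [[1]]),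 (13, [[2]]), (12, [[3]]), (15, []), (19, []), (16, []), (17, []), (20, []), (21, []), (22, []), (23, [[11]])]) (by decide +kernel)
  simpa only [evW, R, evP_cons, evP_nil, evM_cons, evM_nil, List.map_cons, List.map_nil, wordG_cons, wordG_nil, mul_assoc, mul_one, add_zero, xG_zero, one_mul, Q, P12] using h

lemma A_mv4 (t0 t1 t2 y e : K) : (xG checks 15 (t2 * e) * xG checks 19 (t0 * e) * xG checks 16 (t1 * e)) * Q 0 t0 t1 t2 0 0 0 0 0 0 y (t0 * (t1 * (t2 * (e * e)))) * (xG checks 15 (t2 * e) * xG checks 19 (t0 * e) * xG checks 16 (t1 * e)) = Q 0 t0 t1 t2 0 0 0 0 0 0 (t0 * (t1 * (t2 * e)) + y) 0 := by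
  have h := word_eq checks (R [0, t0, t1, t2, 0, 0, 0, 0, 0, 0, y, 0, e, 0, 0, 0, 0, 0, 0, 0, 0, 0, 0, 0, 0, 0, 0, 0, 0, 0, 0, 0]) (tab := chevD4.commTerms) (fun _ _ _ _ => rfl) 22 (w₁ := [(15, [[3, 12]]), (19, [[1, 12]]), (16, [[2, 12]]), (14, []), (18, [[1]]), (13, [[2]]), (12, [[3]]), (15, []), (19, []), (16, []), (17, []), (20, []), (21, []), (22, [[10]]), (23, [[1, 2, 3, 12, 12]]), (15, [[3, 12]]), (19, [[1, 12]]), (16, [[2, 12]])]) (w₂ := [(14, []), (18, [[1]]), (13, [[2]]), (12, [[3]]), (15, []), (19, []), (16, []), (17, []), (20, []), (21, []), (22, [[1, 2, 3, 12], [10]]), (23, [])]) (by decide +kernel)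
  simpa only [evW, R, evP_cons, evP_nil, evM_cons, evM_nil, List.map_cons, List.map_nil, wordG_cons, wordG_nil, mul_assoc, mul_one, add_zero, xG_zero, one_mul, Q, P12] using h

lemma B_mv1 (s w0 w1 w2 y z e0 e1 e2 : K) : (xG checks 18 e0 * xG checks 13 e1 * xG checks 12 e2) * Q s 0 0 0 (s * e2) (s * e0) (s * e1) w0 w1 w2 y z * (xG checks 18 e0 * xG checks 13 e1 * xG checks 12 e2) = Q s 0 0 0 0 0 0 (s * (e1 * e2) + w0) (s * (e0 * e2) + w1) (s * (e0 * e1) + w2) (w0 * e0 + (w1 * e1 + (w2 * e2 + y))) (s * (s * (e0 * (e1 * e2))) + z) := by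
  have h := word_eq checks (R [s, 0, 0, 0, 0, 0, 0, w0, w1, w2, y, z, 0, e0, e1, e2, 0, 0, 0, 0, 0, 0, 0, 0, 0, 0, 0, 0, 0, 0, 0, 0]) (tab := chevD4.commTerms) (fun _ _ _ _ => rfl) 23 (w₁ := [(18, [[13]]), (13, [[14]]), (12, [[15]]), (14, [[0]]), (18, []), (13, []), (12, []), (15, [[0, 15]]), (19, [[0, 13]]), (16, [[0, 14]]), (17, [[7]]), (20, [[8]]), (21, [[9]]), (22, [[10]]), (23, [[11]]), (18, [[13]]), (13, [[14]]), (12, [[15]])]) (w₂ := [(14, [[0]]), (18, []), (13, []), (12, []), (15, []), (19, []), (16, []), (17, [[0, 14, 15], [7]]), (20, [[0, 13, 15], [8]]), (21, [[0, 13, 14], [9]]), (22, [[7, 13], [8, 14], [9, 15], [10]]), (23, [[0, 0, 13, 14, 15], [11]])]) (by decide +kernel)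
  simpa only [evW, R, evP_cons, evP_nil, evM_cons, evM_nil, List.map_cons, List.map_nil, wordG_cons, wordG_nil, mul_assoc, mul_one, add_zero, xG_zero, one_mul, Q, P12] using h

lemma B_sq (s w0 w1 w2 y z : K) : Q s 0 0 0 0 0 0 w0 w1 w2 y z * Q s 0 0 0 0 0 0 w0 w1 w2 y z = P12 0 0 0 0 0 0 0 0 0 0 0 (s * y) := by
  have h := word_eq checks (R [s, 0, 0, 0, 0, 0, 0, w0, w1, w2, y, z, 0, 0, 0, 0, 0, 0, 0, 0, 0, 0, 0, 0, 0, 0, 0, 0, 0, 0, 0, 0]) (tab := chevD4.commTerms) (fun _ _ _ _ => rfl) 29 (w₁ := [(14, [[0]]), (18, []), (13, []), (12, []), (15, []), (19, []), (16, []), (17, [[7]]), (20, [[8]]), (21, [[9]]), (22, [[10]]), (23, [[11]]), (14, [[0]]), (18, []), (13, []), (12, []), (15, []), (19, []), (16, []), (17, [[7]]), (20, [[8]]), (21, [[9]]), (22, [[10]]), (23, [[11]])]) (w₂ := [(12, []), (13, []), (14, []), (15, []), (16, []), (17, []), (18, []), (19, []), (20, []), (21, []),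 (22, []), (23, [[0, 10]])]) (by decide +kernel)
  simpa only [evW, R, evP_cons, evP_nil, evM_cons, evM_nil, List.map_cons, List.map_nil, wordG_cons, wordG_nil, mul_assoc, mul_one, add_zero, xG_zero, one_mul, Q, P12] using h

lemma B_mv2 (s w0 w1 w2 e : K) : (xG checks 22 e) * Q s 0 0 0 0 0 0 w0 w1 w2 0 (s * e) * (xG checks 22 e) = Q s 0 0 0 0 0 0 w0 w1 w2 0 0 := by
  have h := word_eq checks (R [s, 0, 0, 0, 0, 0, 0, w0, w1, w2, 0, 0, e, 0, 0, 0, 0, 0, 0, 0, 0, 0, 0, 0, 0, 0, 0, 0, 0, 0, 0, 0]) (tab := chevD4.commTerms) (fun _ _ _ _ => rfl) 18 (w₁ := [(22, [[12]]), (14, [[0]]), (18, []), (13, []), (12, []), (15, []), (19, []), (16, []), (17, [[7]]), (20, [[8]]), (21, [[9]]), (22, []), (23, [[0, 12]]), (22, [[12]])]) (w₂ := [(14, [[0]]), (18, []), (13, []), (12, []), (15, []), (19, []), (16, []), (17, [[7]]), (20, [[8]]), (21, [[9]]), (22, []), (23, [])]) (by decide +kernel)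
  simpa only [evW, R, evP_cons, evP_nil, evM_cons, evM_nil, List.map_cons, List.map_nil, wordG_cons, wordG_nil, mul_assoc, mul_one, add_zero, xG_zero, one_mul, Q, P12] using h

lemma B_nA (s w0 w1 w2 : K) : (xG checks 22 s * xG checks 19 w0 * xG checks 16 w1 * xG checks 15 w2) = Q 0 0 0 0 w2 w0 w1 0 0 0 s 0 := by
  have h := word_eq checks (R [s, 0, 0, 0, 0, 0, 0, w0, w1, w2, 0, 0, 0, 0, 0, 0, 0, 0, 0, 0, 0, 0, 0, 0, 0, 0, 0, 0, 0, 0, 0, 0]) (tab := chevD4.commTerms) (fun _ _ _ _ => rfl) 17 (w₁ := [(22, [[0]]), (19, [[7]]), (16, [[8]]), (15, [[9]])]) (w₂ := [(14, []), (18, []), (13, []), (12, []), (15, [[9]]), (19, [[7]]), (16, [[8]]), (17, []), (20, []), (21, []), (22, [[0]]), (23, [])]) (by decide +kernel)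
  simpa only [evW, R, evP_cons, evP_nil, evM_cons, evM_nil, List.map_cons, List.map_nil, wordG_cons, wordG_nil, mul_assoc, mul_one, add_zero, xG_zero, one_mul, Q, P12] using h

lemma B_mv3 (v0 v1 v2 c : K) : (xG checks 18 (v1 * c) * xG checks 13 (v2 * c) * xG checks 12 (v0 * c)) * Q 0 0 0 0 v0 v1 v2 0 0 0 (v0 * (v1 * (v2 * (c * c)))) 0 * (xG checks 18 (v1 * c) * xG checks 13 (v2 * c) * xG checks 12 (v0 * c)) = Q 0 0 0 0 v0 v1 v2 0 0 0 0 (v0 * (v1 * (v2 * c))) := by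
  have h := word_eq checks (R [0, 0, 0, 0, v0, v1, v2, 0, 0, 0, 0, 0, 0, 0, 0, 0, c, 0, 0, 0, 0, 0, 0, 0, 0, 0, 0, 0, 0, 0, 0, 0]) (tab := chevD4.commTerms) (fun _ _ _ _ => rfl) 23 (w₁ := [(18, [[5, 16]]), (13, [[6, 16]]), (12, [[4, 16]]), (14, []), (18, []), (13, []), (12, []), (15, [[4]]), (19, [[5]]), (16, [[6]]), (17, []), (20, []), (21, []), (22, [[4, 5, 6, 16, 16]]), (23, []), (18, [[5, 16]]), (13, [[6, 16]]), (12, [[4, 16]])]) (w₂ := [(14, []), (18, []), (13, []), (12, []), (15, [[4]]), (19, [[5]]), (16, [[6]]), (17, []), (20, []), (21, []), (22, []), (23, [[4, 5, 6, 16]])]) (by decide +kernel)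
  simpa only [evW, R, evP_cons, evP_nil, evM_cons, evM_nil, List.map_cons, List.map_nil, wordG_cons, wordG_nil, mul_assoc, mul_one, add_zero, xG_zero, one_mul, Q, P12] using h

lemma B_mv4 (v0 v1 v2 c0 c1 c2 : K) : (xG checks 17 c0 * xG checks 20 c1 * xG checks 21 c2) * Q 0 0 0 0 v0 v1 v2 0 0 0 0 (v0 * c2 + (v1 * c0 + v2 * c1)) * (xG checks 17 c0 * xG checks 20 c1 * xG checks 21 c2) = Q 0 0 0 0 v0 v1 v2 0 0 0 0 0 := by
  have h := word_eq checks (R [0, 0, 0, 0, v0, v1, v2, 0, 0, 0, 0, 0, 0, 0, 0, 0, 0, c0, c1, c2, 0, 0, 0, 0, 0, 0, 0, 0, 0, 0, 0, 0]) (tab := chevD4.commTerms) (fun _ _ _ _ => rfl) 21 (w₁ := [(17, [[17]]), (20, [[18]]), (21, [[19]]), (14, []), (18, []), (13, []), (12, []), (15, [[4]]), (19, [[5]]), (16, [[6]]), (17, []), (20, []), (21, []), (22, []), (23, [[4, 19], [5, 17], [6, 18]]), (17, [[17]]), (20, [[18]]), (21, [[19]])]) (w₂ := [(14, []), (18, []), (13,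 []), (12, []), (15, [[4]]), (19, [[5]]), (16, [[6]]), (17, []), (20, []), (21, []), (22, []), (23, [])]) (by decide +kernel)
  simpa only [evW, R, evP_cons, evP_nil, evM_cons, evM_nil, List.map_cons, List.map_nil, wordG_cons, wordG_nil, mul_assoc, mul_one, add_zero, xG_zero, one_mul, Q, P12] using h

lemma C_nb (v0 v1 v2 w0 w1 w2 y z : K) : (xG checks 12 v0 * xG checks 18 v1 * xG checks 13 v2 * xG checks 17 w0 * xG checks 20 w1 * xG checks 21 w2 * xG checks 23 y * xG checks 22 z) = Q 0 v1 v2 v0 0 0 0 w0 w1 w2 z y := by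
  have h := word_eq checks (R [0, 0, 0, 0, v0, v1, v2, w0, w1, w2, y, z, 0, 0, 0, 0, 0, 0, 0, 0, 0, 0, 0, 0, 0, 0, 0, 0, 0, 0, 0, 0]) (tab := chevD4.commTerms) (fun _ _ _ _ => rfl) 17 (w₁ := [(12, [[4]]), (18, [[5]]), (13, [[6]]), (17, [[7]]), (20, [[8]]), (21, [[9]]), (23, [[10]]), (22, [[11]])]) (w₂ := [(14, []), (18, [[5]]), (13, [[6]]), (12, [[4]]), (15, []), (19, []), (16, []), (17, [[7]]), (20, [[8]]), (21, [[9]]), (22, [[11]]), (23, [[10]])]) (by decide +kernel)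
  simpa only [evW, R, evP_cons, evP_nil, evM_cons, evM_nil, List.map_cons, List.map_nil, wordG_cons, wordG_nil, mul_assoc, mul_one, add_zero, xG_zero, one_mul, Q, P12] using h

lemma C_nA (w0 w1 w2 y z : K) : (xG checks 19 w0 * xG checks 16 w1 * xG checks 15 w2 * xG checks 14 y * xG checks 23 z) = Q y 0 0 0 w2 w0 w1 0 0 0 0 z := by
  have h := word_eq checks (R [0, 0, 0, 0, 0, 0, 0, w0, w1, w2, y, z, 0, 0, 0, 0, 0, 0, 0, 0, 0, 0, 0, 0, 0, 0, 0, 0, 0, 0, 0, 0]) (tab := chevD4.commTerms) (fun _ _ _ _ => rfl) 17 (w₁ := [(19, [[7]]), (16, [[8]]), (15, [[9]]), (14, [[10]]), (23, [[11]])]) (w₂ := [(14, [[10]]), (18, []), (13, []), (12, []), (15, [[9]]), (19, [[7]]), (16, [[8]]), (17, []), (20, []), (21, []), (22, []), (23, [[11]])]) (by decide +kernel)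
  simpa only [evW, R, evP_cons, evP_nil, evM_cons, evM_nil, List.map_cons, List.map_nil, wordG_cons, wordG_nil, mul_assoc, mul_one, add_zero, xG_zero, one_mul, Q, P12] using h

lemma R3 (e0 e1 e2 : K) : (xG checks 19 e0 * xG checks 16 e1 * xG checks 15 e2) = Q 0 0 0 0 e2 e0 e1 0 0 0 0 0 := by
  have h := word_eq checks (R [0, 0, 0, 0, 0, 0, 0, 0, 0, 0, 0, 0, 0, e0, e1, e2, 0, 0, 0, 0, 0, 0, 0, 0, 0, 0, 0, 0, 0, 0, 0, 0]) (tab := chevD4.commTerms) (fun _ _ _ _ => rfl) 17 (w₁ := [(19, [[13]]), (16, [[14]]), (15, [[15]])]) (w₂ := [(14, []), (18, []), (13, []), (12, []), (15, [[15]]), (19, [[13]]), (16, [[14]]), (17, []), (20, []), (21, []), (22, []), (23, [])]) (by decide +kernel)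
  simpa only [evW, R, evP_cons, evP_nil, evM_cons, evM_nil, List.map_cons, List.map_nil, wordG_cons, wordG_nil, mul_assoc, mul_one, add_zero, xG_zero, one_mul, Q, P12] using h

lemma R4 (e0 e1 e2 : K) : (xG checks 21 e0 * xG checks 17 e1 * xG checks 20 e2) = Q 0 0 0 0 0 0 0 e1 e2 e0 0 0 := by
  have h := word_eq checks (R [0, 0, 0, 0, 0, 0, 0, 0, 0, 0, 0, 0, 0, e0, e1, e2, 0, 0, 0, 0, 0, 0, 0, 0, 0, 0, 0, 0, 0, 0, 0, 0]) (tab := chevD4.commTerms) (fun _ _ _ _ => rfl) 17 (w₁ := [(21, [[13]]), (17, [[14]]), (20, [[15]])]) (w₂ := [(14, []), (18, []), (13, []), (12, []), (15, []), (19, []), (16, []), (17, [[14]]), (20, [[15]]), (21, [[13]]), (22, []), (23, [])]) (by decide +kernel)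
  simpa only [evW, R, evP_cons, evP_nil, evM_cons, evM_nil, List.map_cons, List.map_nil, wordG_cons, wordG_nil, mul_assoc, mul_one, add_zero, xG_zero, one_mul, Q, P12] using h

lemma S3 (e0 e1 e2 : K) : (xG checks 15 e0 * xG checks 19 e1 * xG checks 16 e2) * (xG checks 15 e0 * xG checks 19 e1 * xG checks 16 e2) = Q 0 0 0 0 0 0 0 0 0 0 0 0 := by
  have h := word_eq checks (R [0, 0, 0, 0, 0, 0, 0, 0, 0, 0, 0, 0, 0, e0, e1, e2, 0, 0, 0, 0, 0, 0, 0, 0, 0, 0, 0, 0, 0, 0, 0, 0]) (tab := chevD4.commTerms) (fun _ _ _ _ => rfl) 17 (w₁ := [(15, [[13]]), (19, [[14]]), (16, [[15]]), (15, [[13]]), (19, [[14]]), (16, [[15]])]) (w₂ := [(14, []), (18, []), (13, []), (12, []), (15, []), (19, []), (16, []), (17, []), (20, []), (21, []), (22, []), (23, [])]) (by decide +kernel)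
  simpa only [evW, R, evP_cons, evP_nil, evM_cons, evM_nil, List.map_cons, List.map_nil, wordG_cons, wordG_nil, mul_assoc, mul_one, add_zero, xG_zero, one_mul, Q, P12] using h

lemma S4 (e0 e1 e2 : K) : (xG checks 17 e0 * xG checks 20 e1 * xG checks 21 e2) * (xG checks 17 e0 * xG checks 20 e1 * xG checks 21 e2) = Q 0 0 0 0 0 0 0 0 0 0 0 0 := by
  have h := word_eq checks (R [0, 0, 0, 0, 0, 0, 0, 0, 0, 0, 0, 0, 0, e0, e1, e2, 0, 0, 0, 0, 0, 0, 0, 0, 0, 0, 0, 0, 0, 0, 0, 0]) (tab := chevD4.commTerms) (fun _ _ _ _ => rfl) 17 (w₁ := [(17, [[13]]), (20, [[14]]), (21, [[15]]), (17, [[13]]), (20, [[14]]), (21, [[15]])]) (w₂ := [(14, []), (18, []), (13, []), (12, []), (15, []), (19, []), (16, []), (17, []), (20, []), (21, []), (22, []), (23, [])]) (by decide +kernel)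
  simpa only [evW, R, evP_cons, evP_nil, evM_cons, evM_nil, List.map_cons, List.map_nil, wordG_cons, wordG_nil, mul_assoc, mul_one, add_zero, xG_zero, one_mul, Q, P12] using h

lemma SA (e0 e1 e2 : K) : (xG checks 18 e0 * xG checks 13 e1 * xG checks 12 e2) * (xG checks 18 e0 * xG checks 13 e1 * xG checks 12 e2) = Q 0 0 0 0 0 0 0 0 0 0 0 0 := by
  have h := word_eq checks (R [0, 0, 0, 0, 0, 0, 0, 0, 0, 0, 0, 0, 0, e0, e1, e2, 0, 0, 0, 0, 0, 0, 0, 0, 0, 0, 0, 0, 0, 0, 0, 0]) (tab := chevD4.commTerms) (fun _ _ _ _ => rfl) 17 (w₁ := [(18, [[13]]), (13, [[14]]), (12, [[15]]), (18, [[13]]), (13, [[14]]), (12, [[15]])]) (w₂ := [(14, []), (18, []), (13, []), (12, []), (15, []), (19, []), (16, []), (17, []), (20, []), (21, []), (22, []), (23, [])]) (by decide +kernel)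
  simpa only [evW, R, evP_cons, evP_nil, evM_cons, evM_nil, List.map_cons, List.map_nil, wordG_cons, wordG_nil, mul_assoc, mul_one, add_zero, xG_zero, one_mul, Q, P12] using h

lemma A1_P  : (xG checks 18 (1 : K) * xG checks 13 (1 : K) * xG checks 12 (1 : K)) = P12 1 1 0 0 0 0 1 0 0 0 0 0 := by
  have h := word_eq checks (R ([] : List K)) (tab := chevD4.commTerms) (fun _ _ _ _ => rfl) 15 (w₁ := [(18, [[]]), (13, [[]]), (12, [[]])]) (w₂ := [(12, [[]]), (13, [[]]), (14, []), (15, []), (16, []), (17, []), (18, [[]]), (19, []), (20, []), (21, []), (22, []), (23, [])]) (by decide +kernel)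
  simpa only [evW, R, evP_cons, evP_nil, evM_cons, evM_nil, List.map_cons, List.map_nil, wordG_cons, wordG_nil, mul_assoc, mul_one, add_zero, xG_zero, one_mul, Q, P12] using h

lemma U_A (a0 a1 a2 a3 a4 a5 a6 a7 a8 a9 a10 a11 : K) : P12 a0 a1 a2 a3 a4 a5 a6 a7 a8 a9 a10 a11 * (xG checks 18 1 * xG checks 13 1 * xG checks 12 1) * (xG checks 23 a11 * xG checks 22 a10 * xG checks 21 a9 * xG checks 20 a8 * xG checks 19 a7 * xG checks 18 a6 * xG checks 17 a5 * xG checks 16 a4 * xG checks 15 a3 * xG checks 14 a2 * xG checks 13 a1 * xG checks 12 a0) = P12 1 1 0 a2 a2 (a0 * a2 + (a1 * a2 + (a2 + (a3 + a4)))) 1 a2 (a0 * a2 + (a3 + a7)) (a1 * a2 + (a4 + a7)) (a0 * (a1 * a2) + (a0 * a4 + (a0 * a7 + (a1 * a3 + (a1 * a7 + (a5 + (a7 + (a8 + a9)))))))) (a2 * a5 + (a2 * a7 + (a2 * a8 + (a2 * a9 + (a3 * a4 + (a3 * a7 + a4 * a7)))))) := by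
  have h := word_eq checks (R [0, 0, 0, 0, 0, 0, 0, 0, 0, 0, 0, 0, 0, 0, 0, 0, 0, 0, 0, 0, a0, a1, a2, a3, a4, a5, a6, a7, a8, a9, a10, a11]) (tab := chevD4.commTerms) (fun _ _ _ _ => rfl) 38 (w₁ := [(12, [[20]]), (13, [[21]]), (14, [[22]]), (15, [[23]]), (16, [[24]]), (17, [[25]]), (18, [[26]]), (19, [[27]]), (20, [[28]]), (21, [[29]]), (22, [[30]]), (23, [[31]]), (18, [[]]), (13, [[]]), (12, [[]]), (23, [[31]]), (22, [[30]]), (21, [[29]]), (20, [[28]]), (19, [[27]]), (18, [[26]]), (17, [[25]]), (16, [[24]]), (15, [[23]]), (14, [[22]]), (13, [[21]]), (12, [[20]])]) (w₂ := [(12, [[]]), (13, [[]]), (14, []), (15, [[22]]), (16, [[22]]), (17, [[20, 22], [21, 22], [22], [23], [24]]), (18, [[]]), (19, [[22]]), (20, [[20, 22], [23], [27]]), (21, [[21, 22], [24], [27]]), (22, [[20, 21, 22], [20, 24], [20, 27], [21, 23], [21, 27], [25], [27], [28], [29]]), (23, [[22, 25], [22, 27],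 [22, 28], [22, 29], [23, 24], [23, 27], [24, 27]])]) (by decide +kernel)
  simpa only [evW, R, evP_cons, evP_nil, evM_cons, evM_nil, List.map_cons, List.map_nil, wordG_cons, wordG_nil, mul_assoc, mul_one, add_zero, xG_zero, one_mul, Q, P12] using h

end Cfsg.Agent.H04.Col.D4
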