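import Cfsg.Agent.Lib.H04.Col.Cent2
import Cfsg.Agent.Lib.H04.Long.CentTab

/-!
# Centralizers of the remaining involutions of `F₄(q)`, `q` even
-/

set_option autoImplicit false
set_option linter.style.longLine false
set_option linter.unusedSimpArgs false
set_option linter.unusedSectionVars false
set_option linter.unusedVariables false
set_option maxRecDepth 100000

open Cfsg.Lie Cfsg.Agent.H04.Chev Cfsg.Agent.H04.Long
open Cfsg.Agent.H04.Chev.TF4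

namespace Cfsg.Agent.H04.Col.F4C

variable {F : Type*} [Field F]

noncomputable def Q6 (a b c d e f : F) : GL chevF4.Idx F :=
  wordG checks [(39, a), (40, b), (44, c), (45, d), (46, e), (47, f)]

noncomputable def VV (a b c d : F) : GL chevF4.Idx F :=
  xG checks 27 a * xG checks 25 b * xG checks 34 c * xG checks 26 d

/-- the target centralizer of the pair -/
noncomputable def Z2 (F : Type*) [Field F] : Subgroup (GL chevF4.Idx F) :=
  chevF4.rootSubgroup F 33 ⊔ chevF4.rootSubgroup F 14 ⊔ chevF4.rootSubgroup F 24 ⊔ chevF4.rootSubgroup F 23 ⊔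
    Subgroup.closure {g : GL chevF4.Idx F | ∃ (r : ℕ) (c : F), chevF4.IsPosRoot r ∧ r ∉ [27, 25, 34, 26] ∧ (g : Matrix chevF4.Idx chevF4.Idx F) = chevF4.x F r c}

def Z2L : List ℕ := [14, 23, 24, 28, 29, 30, 31, 32, 33, 35, 36, 37, 38, 39, 40, 41, 42, 43, 44, 45, 46, 47]

theorem z2l : ∀ r ∈ Z2L, r = 14 ∨ r = 23 ∨ (chevF4.nroots / 2 ≤ r ∧ r < chevF4.nroots ∧ r ∉ [27, 25, 34, 26]) := by decide +kernel

lemma Z2x {r : ℕ} (hr : r ∈ Z2L) (t : F) : xG checks r t ∈ Z2 F := by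
  unfold Z2
  rcases z2l r hr with rfl | rfl | ⟨h0, h1, h2⟩
  · exact Subgroup.mem_sup_left (Subgroup.mem_sup_left (Subgroup.mem_sup_left (Subgroup.mem_sup_right ((mem_rootSubgroup checks).mpr ⟨t, rfl⟩))))
  · exact Subgroup.mem_sup_left (Subgroup.mem_sup_right ((mem_rootSubgroup checks).mpr ⟨t, rfl⟩))
  · exact Subgroup.mem_sup_right (Subgroup.subset_closure ⟨r, t, (checks2.pos_iff r).mpr ⟨h0, h1⟩, h2, xG_val checks r t⟩)

noncomputable def RR (f24 f28 f29 f30 f31 f32 f33 f35 f36 f37 f38 f39 f40 f41 f42 f43 f44 f45 f46 f47 : F) : GL chevF4.Idx F :=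
  wordG checks [(24, f24), (28, f28), (29, f29), (30, f30), (31, f31), (32, f32), (33, f33), (35, f35), (36, f36), (37, f37), (38, f38), (39, f39), (40, f40), (41, f41), (42, f42), (43, f43), (44, f44), (45, f45), (46, f46), (47, f47)]

lemma RR_mem {f24 f28 f29 f30 f31 f32 f33 f35 f36 f37 f38 f39 f40 f41 f42 f43 f44 f45 f46 f47 : F} : RR f24 f28 f29 f30 f31 f32 f33 f35 f36 f37 f38 f39 f40 f41 f42 f43 f44 f45 f46 f47 ∈ Z2 F := by
  unfold RR
  apply word_mem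
  intro p hp
  simp only [List.mem_cons, List.not_mem_nil, or_false] at hp
  rcases hp with rfl | rfl | rfl | rfl | rfl | rfl | rfl | rfl | rfl | rfl | rfl | rfl | rfl | rfl | rfl | rfl | rfl | rfl | rfl | rfl
  all_goals exact Z2x (by simp [Z2L]) _

def cw1 (r : ℕ) : List ℤ := ([[-1, -1, -1, -1], [-1, -1, -1, -1], [-1, -1, -1, -1], [-1, -1, -1, -1], [-1, -1, -1, -1], [-1, -1, -1, -1], [-1, -1, -1, -1], [-1, -1, -1, -1], [-1, -1, -1, -1], [-1, -1, -1, -1], [-1, -1, -1, -1], [-1, -1, -1, -1], [-1, -1, -1, -1], [-1, -1, -1, -1], [-1, -1, -1, -1], [-1, -1, -1, -1], [-1, -1, -1, -1], [-1, -1, -1, -1], [-1, -1, -1, -1], [-1, -1, -1, -1], [-1, -1, -1, -1], [-1, -1, -1, -1], [-1, -1, -1, -1], [-1, -1, -1, -1], [-1, -1, -1, 1], [-1, -1, 1, -1], [-1, -1, 0, 1], [-1, 1, -1, -1], [-1, 0, 1, -1], [-1, -1, 1, 1], [-1, 0, 1, -1], [-1, 0, 0, 1], [-1, -1, 1, 1], [1, -1, -1, -1], [0, 1, -1, -1], [1, -1,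 1, -1], [1, -1, 0, 1], [-1, 1, 0, -1], [-2, 2, -2, 1], [-2, -1, 2, 1], [-1, 1, 0, -1], [0, 1, -1, -1], [1, -1, 0, 1], [1, -1, 0, 1], [], [-1, 1, 0, -1], [-1, 1, 0, -1], []] : List (List ℤ)).getD r []

def cw2 (r : ℕ) : List ℤ := ([[-1, -1, -1, -1], [-1, -1, -1, -1], [-1, -1, -1, -1], [-1, -1, -1, -1], [-1, -1, -1, -1], [-1, -1, -1, -1], [-1, -1, -1, -1], [-1, -1, -1, -1], [-1, -1, -1, -1], [-1, -1, -1, -1], [-1, -1, -1, -1], [-1, -1, -1, -1], [-1, -1, -1, -1], [-1, -1, -1, -1], [-1, -1, -1, -1], [-1, -1, -1, -1], [-1, -1, -1, -1], [-1, -1, -1, -1], [-1, -1, -1, -1], [-1, -1, -1, -1], [-1, -1, -1, -1], [-1, -1, -1, -1], [-1, -1, -1, -1], [-1, -1, -1, -1], [-1, -1, -1, 1], [-1, -1, 1, -1], [-1, -1, 0, 1], [-1, 1, -1, -1], [-1, 0, 1, -1], [-1, -1, 1, 1], [-1, 0, 1, -1], [-1, 0, 0, 1], [-1, -1, 1, 1], [1, -1, -1, -1], [1, 0, -1, -1], [1, -1, 1, -1], [1, -1, 0, 1], [-2, 2, -1, -2], [-1, 1, -2,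 2], [], [], [1, -1, 1, -1], [1, -1, 0, 1], [1, -1, 0, 1], [], [], [], []] : List (List ℤ)).getD r []

def Orb : List (List ℕ) := [[3,7,8,15,0,1,33,5],[3,7,8,15,1,0,33,6],[3,7,9,16,0,2,33,4],[3,7,9,16,2,0,33,6],[3,7,10,17,1,2,33,4],[3,7,10,17,2,1,33,5],[3,8,7,15,0,1,34,5],[3,8,7,15,1,0,34,6],[3,8,11,21,0,4,34,2],[3,8,11,21,4,0,34,6],[3,8,12,22,1,4,34,2],[3,8,12,22,4,1,34,5],[3,9,7,16,0,2,35,4],[3,9,7,16,2,0,35,6],[3,9,11,23,0,5,35,1],[3,9,11,23,5,0,35,6],[3,9,13,25,2,5,35,1],[3,9,13,25,5,2,35,4],[3,10,7,17,1,2,36,4],[3,10,7,17,2,1,36,5],[3,10,12,24,1,6,36,0],[3,10,12,24,6,1,36,5],[3,10,13,26,2,6,36,0],[3,10,13,26,6,2,36,4],[3,11,8,21,0,4,37,2],[3,11,8,21,4,0,37,6],[3,11,9,23,0,5,37,1],[3,11,9,23,5,0,37,6],[3,11,14,30,4,5,37,1],[3,11,14,30,5,4,37,2],[3,12,8,22,1,4,38,2],[3,12,8,22,4,1,38,5],[3,12,10,24,1,6,38,0],[3,12,10,24,6,1,38,5],[3,12,14,31,4,6,38,0],[3,12,14,31,6,4,38,2],[3,13,9,25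,2,5,39,1],[3,13,9,25,5,2,39,4],[3,13,10,26,2,6,39,0],[3,13,10,26,6,2,39,4],[3,13,14,32,5,6,39,0],[3,13,14,32,6,5,39,1],[3,14,11,30,4,5,40,1],[3,14,11,30,5,4,40,2],[3,14,12,31,4,6,40,0],[3,14,12,31,6,4,40,2],[3,14,13,32,5,6,40,0],[3,14,13,32,6,5,40,1],[7,3,8,4,0,1,14,16],[7,3,8,4,1,0,14,17],[7,3,9,5,0,2,14,15],[7,3,9,5,2,0,14,17],[7,3,10,6,1,2,14,15],[7,3,10,6,2,1,14,16],[7,8,3,4,0,1,27,16],[7,8,3,4,1,0,27,17],[7,8,18,21,0,15,27,2],[7,8,18,21,15,0,27,17],[7,8,19,22,1,15,27,2],[7,8,19,22,15,1,27,16],[7,9,3,5,0,2,28,15],[7,9,3,5,2,0,28,17],[7,9,18,23,0,16,28,1],[7,9,18,23,16,0,28,17],[7,9,20,25,2,16,28,1],[7,9,20,25,16,2,28,15],[7,10,3,6,1,2,29,15],[7,10,3,6,2,1,29,16],[7,10,19,24,1,17,29,0],[7,10,19,24,17,1,29,16],[7,10,20,26,2,17,29,0],[7,10,20,26,17,2,29,15],[7,18,8,21,0,15,37,2],[7,18,8,21,15,0,37,17],[7,18,9,23,0,16,37,1],[7,18,9,23,16,0,37,17],[7,18,33,41,15,16,37,1],[7,18,33,41,16,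15,37,2],[7,19,8,22,1,15,38,2],[7,19,8,22,15,1,38,16],[7,19,10,24,1,17,38,0],[7,19,10,24,17,1,38,16],[7,19,33,42,15,17,38,0],[7,19,33,42,17,15,38,2],[7,20,9,25,2,16,39,1],[7,20,9,25,16,2,39,15],[7,20,10,26,2,17,39,0],[7,20,10,26,17,2,39,15],[7,20,33,43,16,17,39,0],[7,20,33,43,17,16,39,1],[7,33,18,41,15,16,44,1],[7,33,18,41,16,15,44,2],[7,33,19,42,15,17,44,0],[7,33,19,42,17,15,44,2],[7,33,20,43,16,17,44,0],[7,33,20,43,17,16,44,1],[8,3,7,2,0,1,13,21],[8,3,7,2,1,0,13,22],[8,3,11,5,0,4,13,15],[8,3,11,5,4,0,13,22],[8,3,12,6,1,4,13,15],[8,3,12,6,4,1,13,21],[8,7,3,2,0,1,20,21],[8,7,3,2,1,0,20,22],[8,7,18,16,0,15,20,4],[8,7,18,16,15,0,20,22],[8,7,19,17,1,15,20,4],[8,7,19,17,15,1,20,21],[8,11,3,5,0,4,28,15],[8,11,3,5,4,0,28,22],[8,11,18,23,0,21,28,1],[8,11,18,23,21,0,28,22],[8,11,27,30,4,21,28,1],[8,11,27,30,21,4,28,15],[8,12,3,6,1,4,29,15],[8,12,3,6,4,1,29,21],[8,12,19,24,1,22,29,0],[8,12,19,24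,22,1,29,21],[8,12,27,31,4,22,29,0],[8,12,27,31,22,4,29,15],[8,18,7,16,0,15,35,4],[8,18,7,16,15,0,35,22],[8,18,11,23,0,21,35,1],[8,18,11,23,21,0,35,22],[8,18,34,41,15,21,35,1],[8,18,34,41,21,15,35,4],[8,19,7,17,1,15,36,4],[8,19,7,17,15,1,36,21],[8,19,12,24,1,22,36,0],[8,19,12,24,22,1,36,21],[8,19,34,42,15,22,36,0],[8,19,34,42,22,15,36,4],[8,27,11,30,4,21,40,1],[8,27,11,30,21,4,40,15],[8,27,12,31,4,22,40,0],[8,27,12,31,22,4,40,15],[8,27,34,45,21,22,40,0],[8,27,34,45,22,21,40,1],[8,34,18,41,15,21,44,1],[8,34,18,41,21,15,44,4],[8,34,19,42,15,22,44,0],[8,34,19,42,22,15,44,4],[8,34,27,45,21,22,44,0],[8,34,27,45,22,21,44,1],[9,3,7,1,0,2,12,23],[9,3,7,1,2,0,12,25],[9,3,11,4,0,5,12,16],[9,3,11,4,5,0,12,25],[9,3,13,6,2,5,12,16],[9,3,13,6,5,2,12,23],[9,7,3,1,0,2,19,23],[9,7,3,1,2,0,19,25],[9,7,18,15,0,16,19,5],[9,7,18,15,16,0,19,25],[9,7,20,17,2,16,19,5],[9,7,20,17,16,2,19,23],[9,11,3,4,0,5,27,16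],[9,11,3,4,5,0,27,25],[9,11,18,21,0,23,27,2],[9,11,18,21,23,0,27,25],[9,11,28,30,5,23,27,2],[9,11,28,30,23,5,27,16],[9,13,3,6,2,5,29,16],[9,13,3,6,5,2,29,23],[9,13,20,26,2,25,29,0],[9,13,20,26,25,2,29,23],[9,13,28,32,5,25,29,0],[9,13,28,32,25,5,29,16],[9,18,7,15,0,16,34,5],[9,18,7,15,16,0,34,25],[9,18,11,21,0,23,34,2],[9,18,11,21,23,0,34,25],[9,18,35,41,16,23,34,2],[9,18,35,41,23,16,34,5],[9,20,7,17,2,16,36,5],[9,20,7,17,16,2,36,23],[9,20,13,26,2,25,36,0],[9,20,13,26,25,2,36,23],[9,20,35,43,16,25,36,0],[9,20,35,43,25,16,36,5],[9,28,11,30,5,23,40,2],[9,28,11,30,23,5,40,16],[9,28,13,32,5,25,40,0],[9,28,13,32,25,5,40,16],[9,28,35,46,23,25,40,0],[9,28,35,46,25,23,40,2],[9,35,18,41,16,23,44,2],[9,35,18,41,23,16,44,5],[9,35,20,43,16,25,44,0],[9,35,20,43,25,16,44,5],[9,35,28,46,23,25,44,0],[9,35,28,46,25,23,44,2],[10,3,7,0,1,2,11,24],[10,3,7,0,2,1,11,26],[10,3,12,4,1,6,11,17],[10,3,12,4,6,1,1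1,26],[10,3,13,5,2,6,11,17],[10,3,13,5,6,2,11,24],[10,7,3,0,1,2,18,24],[10,7,3,0,2,1,18,26],[10,7,19,15,1,17,18,6],[10,7,19,15,17,1,18,26],[10,7,20,16,2,17,18,6],[10,7,20,16,17,2,18,24],[10,12,3,4,1,6,27,17],[10,12,3,4,6,1,27,26],[10,12,19,22,1,24,27,2],[10,12,19,22,24,1,27,26],[10,12,29,31,6,24,27,2],[10,12,29,31,24,6,27,17],[10,13,3,5,2,6,28,17],[10,13,3,5,6,2,28,24],[10,13,20,25,2,26,28,1],[10,13,20,25,26,2,28,24],[10,13,29,32,6,26,28,1],[10,13,29,32,26,6,28,17],[10,19,7,15,1,17,34,6],[10,19,7,15,17,1,34,26],[10,19,12,22,1,24,34,2],[10,19,12,22,24,1,34,26],[10,19,36,42,17,24,34,2],[10,19,36,42,24,17,34,6],[10,20,7,16,2,17,35,6],[10,20,7,16,17,2,35,24],[10,20,13,25,2,26,35,1],[10,20,13,25,26,2,35,24],[10,20,36,43,17,26,35,1],[10,20,36,43,26,17,35,6],[10,29,12,31,6,24,40,2],[10,29,12,31,24,6,40,17],[10,29,13,32,6,26,40,1],[10,29,13,32,26,6,40,17],[10,29,36,47,24,26,40,1],[10,29,36,47,2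6,24,40,2],[10,36,19,42,17,24,44,2],[10,36,19,42,24,17,44,6],[10,36,20,43,17,26,44,1],[10,36,20,43,26,17,44,6],[10,36,29,47,24,26,44,1],[10,36,29,47,26,24,44,2],[11,3,8,1,0,4,10,23],[11,3,8,1,4,0,10,30],[11,3,9,2,0,5,10,21],[11,3,9,2,5,0,10,30],[11,3,14,6,4,5,10,21],[11,3,14,6,5,4,10,23],[11,8,3,1,0,4,19,23],[11,8,3,1,4,0,19,30],[11,8,18,15,0,21,19,5],[11,8,18,15,21,0,19,30],[11,8,27,22,4,21,19,5],[11,8,27,22,21,4,19,23],[11,9,3,2,0,5,20,21],[11,9,3,2,5,0,20,30],[11,9,18,16,0,23,20,4],[11,9,18,16,23,0,20,30],[11,9,28,25,5,23,20,4],[11,9,28,25,23,5,20,21],[11,14,3,6,4,5,29,21],[11,14,3,6,5,4,29,23],[11,14,27,31,4,30,29,0],[11,14,27,31,30,4,29,23],[11,14,28,32,5,30,29,0],[11,14,28,32,30,5,29,21],[11,18,8,15,0,21,33,5],[11,18,8,15,21,0,33,30],[11,18,9,16,0,23,33,4],[11,18,9,16,23,0,33,30],[11,18,37,41,21,23,33,4],[11,18,37,41,23,21,33,5],[11,27,8,22,4,21,38,5],[11,27,8,22,21,4,38,23],[11,2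7,14,31,4,30,38,0],[11,27,14,31,30,4,38,23],[11,27,37,45,21,30,38,0],[11,27,37,45,30,21,38,5],[11,28,9,25,5,23,39,4],[11,28,9,25,23,5,39,21],[11,28,14,32,5,30,39,0],[11,28,14,32,30,5,39,21],[11,28,37,46,23,30,39,0],[11,28,37,46,30,23,39,4],[11,37,18,41,21,23,44,4],[11,37,18,41,23,21,44,5],[11,37,27,45,21,30,44,0],[11,37,27,45,30,21,44,5],[11,37,28,46,23,30,44,0],[11,37,28,46,30,23,44,4],[12,3,8,0,1,4,9,24],[12,3,8,0,4,1,9,31],[12,3,10,2,1,6,9,22],[12,3,10,2,6,1,9,31],[12,3,14,5,4,6,9,22],[12,3,14,5,6,4,9,24],[12,8,3,0,1,4,18,24],[12,8,3,0,4,1,18,31],[12,8,19,15,1,22,18,6],[12,8,19,15,22,1,18,31],[12,8,27,21,4,22,18,6],[12,8,27,21,22,4,18,24],[12,10,3,2,1,6,20,22],[12,10,3,2,6,1,20,31],[12,10,19,17,1,24,20,4],[12,10,19,17,24,1,20,31],[12,10,29,26,6,24,20,4],[12,10,29,26,24,6,20,22],[12,14,3,5,4,6,28,22],[12,14,3,5,6,4,28,24],[12,14,27,30,4,31,28,1],[12,14,27,30,31,4,28,24],[12,14,29,32,6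,31,28,1],[12,14,29,32,31,6,28,22],[12,19,8,15,1,22,33,6],[12,19,8,15,22,1,33,31],[12,19,10,17,1,24,33,4],[12,19,10,17,24,1,33,31],[12,19,38,42,22,24,33,4],[12,19,38,42,24,22,33,6],[12,27,8,21,4,22,37,6],[12,27,8,21,22,4,37,24],[12,27,14,30,4,31,37,1],[12,27,14,30,31,4,37,24],[12,27,38,45,22,31,37,1],[12,27,38,45,31,22,37,6],[12,29,10,26,6,24,39,4],[12,29,10,26,24,6,39,22],[12,29,14,32,6,31,39,1],[12,29,14,32,31,6,39,22],[12,29,38,47,24,31,39,1],[12,29,38,47,31,24,39,4],[12,38,19,42,22,24,44,4],[12,38,19,42,24,22,44,6],[12,38,27,45,22,31,44,1],[12,38,27,45,31,22,44,6],[12,38,29,47,24,31,44,1],[12,38,29,47,31,24,44,4],[13,3,9,0,2,5,8,26],[13,3,9,0,5,2,8,32],[13,3,10,1,2,6,8,25],[13,3,10,1,6,2,8,32],[13,3,14,4,5,6,8,25],[13,3,14,4,6,5,8,26],[13,9,3,0,2,5,18,26],[13,9,3,0,5,2,18,32],[13,9,20,16,2,25,18,6],[13,9,20,16,25,2,18,32],[13,9,28,23,5,25,18,6],[13,9,28,23,25,5,18,26],[13,10,3,1,2,6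,19,25],[13,10,3,1,6,2,19,32],[13,10,20,17,2,26,19,5],[13,10,20,17,26,2,19,32],[13,10,29,24,6,26,19,5],[13,10,29,24,26,6,19,25],[13,14,3,4,5,6,27,25],[13,14,3,4,6,5,27,26],[13,14,28,30,5,32,27,2],[13,14,28,30,32,5,27,26],[13,14,29,31,6,32,27,2],[13,14,29,31,32,6,27,25],[13,20,9,16,2,25,33,6],[13,20,9,16,25,2,33,32],[13,20,10,17,2,26,33,5],[13,20,10,17,26,2,33,32],[13,20,39,43,25,26,33,5],[13,20,39,43,26,25,33,6],[13,28,9,23,5,25,37,6],[13,28,9,23,25,5,37,26],[13,28,14,30,5,32,37,2],[13,28,14,30,32,5,37,26],[13,28,39,46,25,32,37,2],[13,28,39,46,32,25,37,6],[13,29,10,24,6,26,38,5],[13,29,10,24,26,6,38,25],[13,29,14,31,6,32,38,2],[13,29,14,31,32,6,38,25],[13,29,39,47,26,32,38,2],[13,29,39,47,32,26,38,5],[13,39,20,43,25,26,44,5],[13,39,20,43,26,25,44,6],[13,39,28,46,25,32,44,2],[13,39,28,46,32,25,44,6],[13,39,29,47,26,32,44,2],[13,39,29,47,32,26,44,5],[14,3,11,0,4,5,7,31],[14,3,11,0,5,4,7,3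2],[14,3,12,1,4,6,7,30],[14,3,12,1,6,4,7,32],[14,3,13,2,5,6,7,30],[14,3,13,2,6,5,7,31],[14,11,3,0,4,5,18,31],[14,11,3,0,5,4,18,32],[14,11,27,21,4,30,18,6],[14,11,27,21,30,4,18,32],[14,11,28,23,5,30,18,6],[14,11,28,23,30,5,18,31],[14,12,3,1,4,6,19,30],[14,12,3,1,6,4,19,32],[14,12,27,22,4,31,19,5],[14,12,27,22,31,4,19,32],[14,12,29,24,6,31,19,5],[14,12,29,24,31,6,19,30],[14,13,3,2,5,6,20,30],[14,13,3,2,6,5,20,31],[14,13,28,25,5,32,20,4],[14,13,28,25,32,5,20,31],[14,13,29,26,6,32,20,4],[14,13,29,26,32,6,20,30],[14,27,11,21,4,30,34,6],[14,27,11,21,30,4,34,32],[14,27,12,22,4,31,34,5],[14,27,12,22,31,4,34,32],[14,27,40,45,30,31,34,5],[14,27,40,45,31,30,34,6],[14,28,11,23,5,30,35,6],[14,28,11,23,30,5,35,31],[14,28,13,25,5,32,35,4],[14,28,13,25,32,5,35,31],[14,28,40,46,30,32,35,4],[14,28,40,46,32,30,35,6],[14,29,12,24,6,31,36,5],[14,29,12,24,31,6,36,30],[14,29,13,26,6,32,36,4],[14,29,13,26,32,6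,36,30],[14,29,40,47,31,32,36,4],[14,29,40,47,32,31,36,5],[14,40,27,45,30,31,44,5],[14,40,27,45,31,30,44,6],[14,40,28,46,30,32,44,4],[14,40,28,46,32,30,44,6],[14,40,29,47,31,32,44,4],[14,40,29,47,32,31,44,5],[18,7,8,1,0,15,10,23],[18,7,8,1,15,0,10,41],[18,7,9,2,0,16,10,21],[18,7,9,2,16,0,10,41],[18,7,33,17,15,16,10,21],[18,7,33,17,16,15,10,23],[18,8,7,1,0,15,12,23],[18,8,7,1,15,0,12,41],[18,8,11,4,0,21,12,16],[18,8,11,4,21,0,12,41],[18,8,34,22,15,21,12,16],[18,8,34,22,21,15,12,23],[18,9,7,2,0,16,13,21],[18,9,7,2,16,0,13,41],[18,9,11,5,0,23,13,15],[18,9,11,5,23,0,13,41],[18,9,35,25,16,23,13,15],[18,9,35,25,23,16,13,21],[18,11,8,4,0,21,14,16],[18,11,8,4,21,0,14,41],[18,11,9,5,0,23,14,15],[18,11,9,5,23,0,14,41],[18,11,37,30,21,23,14,15],[18,11,37,30,23,21,14,16],[18,33,7,17,15,16,36,21],[18,33,7,17,16,15,36,23],[18,33,34,42,15,41,36,0],[18,33,34,42,41,15,36,23],[18,33,35,43,16,41,36,0],[18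,33,35,43,41,16,36,21],[18,34,8,22,15,21,38,16],[18,34,8,22,21,15,38,23],[18,34,33,42,15,41,38,0],[18,34,33,42,41,15,38,23],[18,34,37,45,21,41,38,0],[18,34,37,45,41,21,38,16],[18,35,9,25,16,23,39,15],[18,35,9,25,23,16,39,21],[18,35,33,43,16,41,39,0],[18,35,33,43,41,16,39,21],[18,35,37,46,23,41,39,0],[18,35,37,46,41,23,39,15],[18,37,11,30,21,23,40,15],[18,37,11,30,23,21,40,16],[18,37,34,45,21,41,40,0],[18,37,34,45,41,21,40,16],[18,37,35,46,23,41,40,0],[18,37,35,46,41,23,40,15],[19,7,8,0,1,15,9,24],[19,7,8,0,15,1,9,42],[19,7,10,2,1,17,9,22],[19,7,10,2,17,1,9,42],[19,7,33,16,15,17,9,22],[19,7,33,16,17,15,9,24],[19,8,7,0,1,15,11,24],[19,8,7,0,15,1,11,42],[19,8,12,4,1,22,11,17],[19,8,12,4,22,1,11,42],[19,8,34,21,15,22,11,17],[19,8,34,21,22,15,11,24],[19,10,7,2,1,17,13,22],[19,10,7,2,17,1,13,42],[19,10,12,6,1,24,13,15],[19,10,12,6,24,1,13,42],[19,10,36,26,17,24,13,15],[19,10,36,26,24,17,13,22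],[19,12,8,4,1,22,14,17],[19,12,8,4,22,1,14,42],[19,12,10,6,1,24,14,15],[19,12,10,6,24,1,14,42],[19,12,38,31,22,24,14,15],[19,12,38,31,24,22,14,17],[19,33,7,16,15,17,35,22],[19,33,7,16,17,15,35,24],[19,33,34,41,15,42,35,1],[19,33,34,41,42,15,35,24],[19,33,36,43,17,42,35,1],[19,33,36,43,42,17,35,22],[19,34,8,21,15,22,37,17],[19,34,8,21,22,15,37,24],[19,34,33,41,15,42,37,1],[19,34,33,41,42,15,37,24],[19,34,38,45,22,42,37,1],[19,34,38,45,42,22,37,17],[19,36,10,26,17,24,39,15],[19,36,10,26,24,17,39,22],[19,36,33,43,17,42,39,1],[19,36,33,43,42,17,39,22],[19,36,38,47,24,42,39,1],[19,36,38,47,42,24,39,15],[19,38,12,31,22,24,40,15],[19,38,12,31,24,22,40,17],[19,38,34,45,22,42,40,1],[19,38,34,45,42,22,40,17],[19,38,36,47,24,42,40,1],[19,38,36,47,42,24,40,15],[20,7,9,0,2,16,8,26],[20,7,9,0,16,2,8,43],[20,7,10,1,2,17,8,25],[20,7,10,1,17,2,8,43],[20,7,33,15,16,17,8,25],[20,7,33,15,17,16,8,26],[20,9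,7,0,2,16,11,26],[20,9,7,0,16,2,11,43],[20,9,13,5,2,25,11,17],[20,9,13,5,25,2,11,43],[20,9,35,23,16,25,11,17],[20,9,35,23,25,16,11,26],[20,10,7,1,2,17,12,25],[20,10,7,1,17,2,12,43],[20,10,13,6,2,26,12,16],[20,10,13,6,26,2,12,43],[20,10,36,24,17,26,12,16],[20,10,36,24,26,17,12,25],[20,13,9,5,2,25,14,17],[20,13,9,5,25,2,14,43],[20,13,10,6,2,26,14,16],[20,13,10,6,26,2,14,43],[20,13,39,32,25,26,14,16],[20,13,39,32,26,25,14,17],[20,33,7,15,16,17,34,25],[20,33,7,15,17,16,34,26],[20,33,35,41,16,43,34,2],[20,33,35,41,43,16,34,26],[20,33,36,42,17,43,34,2],[20,33,36,42,43,17,34,25],[20,35,9,23,16,25,37,17],[20,35,9,23,25,16,37,26],[20,35,33,41,16,43,37,2],[20,35,33,41,43,16,37,26],[20,35,39,46,25,43,37,2],[20,35,39,46,43,25,37,17],[20,36,10,24,17,26,38,16],[20,36,10,24,26,17,38,25],[20,36,33,42,17,43,38,2],[20,36,33,42,43,17,38,25],[20,36,39,47,26,43,38,2],[20,36,39,47,43,26,38,16],[20,39,13,32,2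5,26,40,16],[20,39,13,32,26,25,40,17],[20,39,35,46,25,43,40,2],[20,39,35,46,43,25,40,17],[20,39,36,47,26,43,40,2],[20,39,36,47,43,26,40,16],[27,8,11,0,4,21,7,31],[27,8,11,0,21,4,7,45],[27,8,12,1,4,22,7,30],[27,8,12,1,22,4,7,45],[27,8,34,15,21,22,7,30],[27,8,34,15,22,21,7,31],[27,11,8,0,4,21,9,31],[27,11,8,0,21,4,9,45],[27,11,14,5,4,30,9,22],[27,11,14,5,30,4,9,45],[27,11,37,23,21,30,9,22],[27,11,37,23,30,21,9,31],[27,12,8,1,4,22,10,30],[27,12,8,1,22,4,10,45],[27,12,14,6,4,31,10,21],[27,12,14,6,31,4,10,45],[27,12,38,24,22,31,10,21],[27,12,38,24,31,22,10,30],[27,14,11,5,4,30,13,22],[27,14,11,5,30,4,13,45],[27,14,12,6,4,31,13,21],[27,14,12,6,31,4,13,45],[27,14,40,32,30,31,13,21],[27,14,40,32,31,30,13,22],[27,34,8,15,21,22,33,30],[27,34,8,15,22,21,33,31],[27,34,37,41,21,45,33,4],[27,34,37,41,45,21,33,31],[27,34,38,42,22,45,33,4],[27,34,38,42,45,22,33,30],[27,37,11,23,21,30,35,22],[27,37,11,2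3,30,21,35,31],[27,37,34,41,21,45,35,4],[27,37,34,41,45,21,35,31],[27,37,40,46,30,45,35,4],[27,37,40,46,45,30,35,22],[27,38,12,24,22,31,36,21],[27,38,12,24,31,22,36,30],[27,38,34,42,22,45,36,4],[27,38,34,42,45,22,36,30],[27,38,40,47,31,45,36,4],[27,38,40,47,45,31,36,21],[27,40,14,32,30,31,39,21],[27,40,14,32,31,30,39,22],[27,40,37,46,30,45,39,4],[27,40,37,46,45,30,39,22],[27,40,38,47,31,45,39,4],[27,40,38,47,45,31,39,21],[28,9,11,0,5,23,7,32],[28,9,11,0,23,5,7,46],[28,9,13,2,5,25,7,30],[28,9,13,2,25,5,7,46],[28,9,35,16,23,25,7,30],[28,9,35,16,25,23,7,32],[28,11,9,0,5,23,8,32],[28,11,9,0,23,5,8,46],[28,11,14,4,5,30,8,25],[28,11,14,4,30,5,8,46],[28,11,37,21,23,30,8,25],[28,11,37,21,30,23,8,32],[28,13,9,2,5,25,10,30],[28,13,9,2,25,5,10,46],[28,13,14,6,5,32,10,23],[28,13,14,6,32,5,10,46],[28,13,39,26,25,32,10,23],[28,13,39,26,32,25,10,30],[28,14,11,4,5,30,12,25],[28,14,11,4,30,5,12,46],[28,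14,13,6,5,32,12,23],[28,14,13,6,32,5,12,46],[28,14,40,31,30,32,12,23],[28,14,40,31,32,30,12,25],[28,35,9,16,23,25,33,30],[28,35,9,16,25,23,33,32],[28,35,37,41,23,46,33,5],[28,35,37,41,46,23,33,32],[28,35,39,43,25,46,33,5],[28,35,39,43,46,25,33,30],[28,37,11,21,23,30,34,25],[28,37,11,21,30,23,34,32],[28,37,35,41,23,46,34,5],[28,37,35,41,46,23,34,32],[28,37,40,45,30,46,34,5],[28,37,40,45,46,30,34,25],[28,39,13,26,25,32,36,23],[28,39,13,26,32,25,36,30],[28,39,35,43,25,46,36,5],[28,39,35,43,46,25,36,30],[28,39,40,47,32,46,36,5],[28,39,40,47,46,32,36,23],[28,40,14,31,30,32,38,23],[28,40,14,31,32,30,38,25],[28,40,37,45,30,46,38,5],[28,40,37,45,46,30,38,25],[28,40,39,47,32,46,38,5],[28,40,39,47,46,32,38,23],[29,10,12,1,6,24,7,32],[29,10,12,1,24,6,7,47],[29,10,13,2,6,26,7,31],[29,10,13,2,26,6,7,47],[29,10,36,17,24,26,7,31],[29,10,36,17,26,24,7,32],[29,12,10,1,6,24,8,32],[29,12,10,1,24,6,8,47],[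29,12,14,4,6,31,8,26],[29,12,14,4,31,6,8,47],[29,12,38,22,24,31,8,26],[29,12,38,22,31,24,8,32],[29,13,10,2,6,26,9,31],[29,13,10,2,26,6,9,47],[29,13,14,5,6,32,9,24],[29,13,14,5,32,6,9,47],[29,13,39,25,26,32,9,24],[29,13,39,25,32,26,9,31],[29,14,12,4,6,31,11,26],[29,14,12,4,31,6,11,47],[29,14,13,5,6,32,11,24],[29,14,13,5,32,6,11,47],[29,14,40,30,31,32,11,24],[29,14,40,30,32,31,11,26],[29,36,10,17,24,26,33,31],[29,36,10,17,26,24,33,32],[29,36,38,42,24,47,33,6],[29,36,38,42,47,24,33,32],[29,36,39,43,26,47,33,6],[29,36,39,43,47,26,33,31],[29,38,12,22,24,31,34,26],[29,38,12,22,31,24,34,32],[29,38,36,42,24,47,34,6],[29,38,36,42,47,24,34,32],[29,38,40,45,31,47,34,6],[29,38,40,45,47,31,34,26],[29,39,13,25,26,32,35,24],[29,39,13,25,32,26,35,31],[29,39,36,43,26,47,35,6],[29,39,36,43,47,26,35,31],[29,39,40,46,32,47,35,6],[29,39,40,46,47,32,35,24],[29,40,14,30,31,32,37,24],[29,40,14,30,32,31,37,26],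[29,40,38,45,31,47,37,6],[29,40,38,45,47,31,37,26],[29,40,39,46,32,47,37,6],[29,40,39,46,47,32,37,24],[33,7,18,0,15,16,3,42],[33,7,18,0,16,15,3,43],[33,7,19,1,15,17,3,41],[33,7,19,1,17,15,3,43],[33,7,20,2,16,17,3,41],[33,7,20,2,17,16,3,42],[33,18,7,0,15,16,11,42],[33,18,7,0,16,15,11,43],[33,18,34,21,15,41,11,17],[33,18,34,21,41,15,11,43],[33,18,35,23,16,41,11,17],[33,18,35,23,41,16,11,42],[33,19,7,1,15,17,12,41],[33,19,7,1,17,15,12,43],[33,19,34,22,15,42,12,16],[33,19,34,22,42,15,12,43],[33,19,36,24,17,42,12,16],[33,19,36,24,42,17,12,41],[33,20,7,2,16,17,13,41],[33,20,7,2,17,16,13,42],[33,20,35,25,16,43,13,15],[33,20,35,25,43,16,13,42],[33,20,36,26,17,43,13,15],[33,20,36,26,43,17,13,41],[33,34,18,21,15,41,27,17],[33,34,18,21,41,15,27,43],[33,34,19,22,15,42,27,16],[33,34,19,22,42,15,27,43],[33,34,44,45,41,42,27,16],[33,34,44,45,42,41,27,17],[33,35,18,23,16,41,28,17],[33,35,18,23,41,16,28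,42],[33,35,20,25,16,43,28,15],[33,35,20,25,43,16,28,42],[33,35,44,46,41,43,28,15],[33,35,44,46,43,41,28,17],[33,36,19,24,17,42,29,16],[33,36,19,24,42,17,29,41],[33,36,20,26,17,43,29,15],[33,36,20,26,43,17,29,41],[33,36,44,47,42,43,29,15],[33,36,44,47,43,42,29,16],[33,44,34,45,41,42,40,16],[33,44,34,45,42,41,40,17],[33,44,35,46,41,43,40,15],[33,44,35,46,43,41,40,17],[33,44,36,47,42,43,40,15],[33,44,36,47,43,42,40,16],[34,8,18,0,15,21,3,42],[34,8,18,0,21,15,3,45],[34,8,19,1,15,22,3,41],[34,8,19,1,22,15,3,45],[34,8,27,4,21,22,3,41],[34,8,27,4,22,21,3,42],[34,18,8,0,15,21,9,42],[34,18,8,0,21,15,9,45],[34,18,33,16,15,41,9,22],[34,18,33,16,41,15,9,45],[34,18,37,23,21,41,9,22],[34,18,37,23,41,21,9,42],[34,19,8,1,15,22,10,41],[34,19,8,1,22,15,10,45],[34,19,33,17,15,42,10,21],[34,19,33,17,42,15,10,45],[34,19,38,24,22,42,10,21],[34,19,38,24,42,22,10,41],[34,27,8,4,21,22,14,41],[34,27,8,4,22,21,1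4,42],[34,27,37,30,21,45,14,15],[34,27,37,30,45,21,14,42],[34,27,38,31,22,45,14,15],[34,27,38,31,45,22,14,41],[34,33,18,16,15,41,20,22],[34,33,18,16,41,15,20,45],[34,33,19,17,15,42,20,21],[34,33,19,17,42,15,20,45],[34,33,44,43,41,42,20,21],[34,33,44,43,42,41,20,22],[34,37,18,23,21,41,28,22],[34,37,18,23,41,21,28,42],[34,37,27,30,21,45,28,15],[34,37,27,30,45,21,28,42],[34,37,44,46,41,45,28,15],[34,37,44,46,45,41,28,22],[34,38,19,24,22,42,29,21],[34,38,19,24,42,22,29,41],[34,38,27,31,22,45,29,15],[34,38,27,31,45,22,29,41],[34,38,44,47,42,45,29,15],[34,38,44,47,45,42,29,21],[34,44,33,43,41,42,39,21],[34,44,33,43,42,41,39,22],[34,44,37,46,41,45,39,15],[34,44,37,46,45,41,39,22],[34,44,38,47,42,45,39,15],[34,44,38,47,45,42,39,21],[35,9,18,0,16,23,3,43],[35,9,18,0,23,16,3,46],[35,9,20,2,16,25,3,41],[35,9,20,2,25,16,3,46],[35,9,28,5,23,25,3,41],[35,9,28,5,25,23,3,43],[35,18,9,0,16,23,8,43],[35,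18,9,0,23,16,8,46],[35,18,33,15,16,41,8,25],[35,18,33,15,41,16,8,46],[35,18,37,21,23,41,8,25],[35,18,37,21,41,23,8,43],[35,20,9,2,16,25,10,41],[35,20,9,2,25,16,10,46],[35,20,33,17,16,43,10,23],[35,20,33,17,43,16,10,46],[35,20,39,26,25,43,10,23],[35,20,39,26,43,25,10,41],[35,28,9,5,23,25,14,41],[35,28,9,5,25,23,14,43],[35,28,37,30,23,46,14,16],[35,28,37,30,46,23,14,43],[35,28,39,32,25,46,14,16],[35,28,39,32,46,25,14,41],[35,33,18,15,16,41,19,25],[35,33,18,15,41,16,19,46],[35,33,20,17,16,43,19,23],[35,33,20,17,43,16,19,46],[35,33,44,42,41,43,19,23],[35,33,44,42,43,41,19,25],[35,37,18,21,23,41,27,25],[35,37,18,21,41,23,27,43],[35,37,28,30,23,46,27,16],[35,37,28,30,46,23,27,43],[35,37,44,45,41,46,27,16],[35,37,44,45,46,41,27,25],[35,39,20,26,25,43,29,23],[35,39,20,26,43,25,29,41],[35,39,28,32,25,46,29,16],[35,39,28,32,46,25,29,41],[35,39,44,47,43,46,29,16],[35,39,44,47,46,43,29,23],[35,44,3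3,42,41,43,38,23],[35,44,33,42,43,41,38,25],[35,44,37,45,41,46,38,16],[35,44,37,45,46,41,38,25],[35,44,39,47,43,46,38,16],[35,44,39,47,46,43,38,23],[36,10,19,1,17,24,3,43],[36,10,19,1,24,17,3,47],[36,10,20,2,17,26,3,42],[36,10,20,2,26,17,3,47],[36,10,29,6,24,26,3,42],[36,10,29,6,26,24,3,43],[36,19,10,1,17,24,8,43],[36,19,10,1,24,17,8,47],[36,19,33,15,17,42,8,26],[36,19,33,15,42,17,8,47],[36,19,38,22,24,42,8,26],[36,19,38,22,42,24,8,43],[36,20,10,2,17,26,9,42],[36,20,10,2,26,17,9,47],[36,20,33,16,17,43,9,24],[36,20,33,16,43,17,9,47],[36,20,39,25,26,43,9,24],[36,20,39,25,43,26,9,42],[36,29,10,6,24,26,14,42],[36,29,10,6,26,24,14,43],[36,29,38,31,24,47,14,17],[36,29,38,31,47,24,14,43],[36,29,39,32,26,47,14,17],[36,29,39,32,47,26,14,42],[36,33,19,15,17,42,18,26],[36,33,19,15,42,17,18,47],[36,33,20,16,17,43,18,24],[36,33,20,16,43,17,18,47],[36,33,44,41,42,43,18,24],[36,33,44,41,43,42,18,26],[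36,38,19,22,24,42,27,26],[36,38,19,22,42,24,27,43],[36,38,29,31,24,47,27,17],[36,38,29,31,47,24,27,43],[36,38,44,45,42,47,27,17],[36,38,44,45,47,42,27,26],[36,39,20,25,26,43,28,24],[36,39,20,25,43,26,28,42],[36,39,29,32,26,47,28,17],[36,39,29,32,47,26,28,42],[36,39,44,46,43,47,28,17],[36,39,44,46,47,43,28,24],[36,44,33,41,42,43,37,24],[36,44,33,41,43,42,37,26],[36,44,38,45,42,47,37,17],[36,44,38,45,47,42,37,26],[36,44,39,46,43,47,37,17],[36,44,39,46,47,43,37,24],[37,11,18,0,21,23,3,45],[37,11,18,0,23,21,3,46],[37,11,27,4,21,30,3,41],[37,11,27,4,30,21,3,46],[37,11,28,5,23,30,3,41],[37,11,28,5,30,23,3,45],[37,18,11,0,21,23,7,45],[37,18,11,0,23,21,7,46],[37,18,34,15,21,41,7,30],[37,18,34,15,41,21,7,46],[37,18,35,16,23,41,7,30],[37,18,35,16,41,23,7,45],[37,27,11,4,21,30,12,41],[37,27,11,4,30,21,12,46],[37,27,34,22,21,45,12,23],[37,27,34,22,45,21,12,46],[37,27,40,31,30,45,12,23],[37,27,40,31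,45,30,12,41],[37,28,11,5,23,30,13,41],[37,28,11,5,30,23,13,45],[37,28,35,25,23,46,13,21],[37,28,35,25,46,23,13,45],[37,28,40,32,30,46,13,21],[37,28,40,32,46,30,13,41],[37,34,18,15,21,41,19,30],[37,34,18,15,41,21,19,46],[37,34,27,22,21,45,19,23],[37,34,27,22,45,21,19,46],[37,34,44,42,41,45,19,23],[37,34,44,42,45,41,19,30],[37,35,18,16,23,41,20,30],[37,35,18,16,41,23,20,45],[37,35,28,25,23,46,20,21],[37,35,28,25,46,23,20,45],[37,35,44,43,41,46,20,21],[37,35,44,43,46,41,20,30],[37,40,27,31,30,45,29,23],[37,40,27,31,45,30,29,41],[37,40,28,32,30,46,29,21],[37,40,28,32,46,30,29,41],[37,40,44,47,45,46,29,21],[37,40,44,47,46,45,29,23],[37,44,34,42,41,45,36,23],[37,44,34,42,45,41,36,30],[37,44,35,43,41,46,36,21],[37,44,35,43,46,41,36,30],[37,44,40,47,45,46,36,21],[37,44,40,47,46,45,36,23],[38,12,19,1,22,24,3,45],[38,12,19,1,24,22,3,47],[38,12,27,4,22,31,3,42],[38,12,27,4,31,22,3,47],[38,12,29,6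,24,31,3,42],[38,12,29,6,31,24,3,45],[38,19,12,1,22,24,7,45],[38,19,12,1,24,22,7,47],[38,19,34,15,22,42,7,31],[38,19,34,15,42,22,7,47],[38,19,36,17,24,42,7,31],[38,19,36,17,42,24,7,45],[38,27,12,4,22,31,11,42],[38,27,12,4,31,22,11,47],[38,27,34,21,22,45,11,24],[38,27,34,21,45,22,11,47],[38,27,40,30,31,45,11,24],[38,27,40,30,45,31,11,42],[38,29,12,6,24,31,13,42],[38,29,12,6,31,24,13,45],[38,29,36,26,24,47,13,22],[38,29,36,26,47,24,13,45],[38,29,40,32,31,47,13,22],[38,29,40,32,47,31,13,42],[38,34,19,15,22,42,18,31],[38,34,19,15,42,22,18,47],[38,34,27,21,22,45,18,24],[38,34,27,21,45,22,18,47],[38,34,44,41,42,45,18,24],[38,34,44,41,45,42,18,31],[38,36,19,17,24,42,20,31],[38,36,19,17,42,24,20,45],[38,36,29,26,24,47,20,22],[38,36,29,26,47,24,20,45],[38,36,44,43,42,47,20,22],[38,36,44,43,47,42,20,31],[38,40,27,30,31,45,28,24],[38,40,27,30,45,31,28,42],[38,40,29,32,31,47,28,22],[38,40,29,32,47,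31,28,42],[38,40,44,46,45,47,28,22],[38,40,44,46,47,45,28,24],[38,44,34,41,42,45,35,24],[38,44,34,41,45,42,35,31],[38,44,36,43,42,47,35,22],[38,44,36,43,47,42,35,31],[38,44,40,46,45,47,35,22],[38,44,40,46,47,45,35,24],[39,13,20,2,25,26,3,46],[39,13,20,2,26,25,3,47],[39,13,28,5,25,32,3,43],[39,13,28,5,32,25,3,47],[39,13,29,6,26,32,3,43],[39,13,29,6,32,26,3,46],[39,20,13,2,25,26,7,46],[39,20,13,2,26,25,7,47],[39,20,35,16,25,43,7,32],[39,20,35,16,43,25,7,47],[39,20,36,17,26,43,7,32],[39,20,36,17,43,26,7,46],[39,28,13,5,25,32,11,43],[39,28,13,5,32,25,11,47],[39,28,35,23,25,46,11,26],[39,28,35,23,46,25,11,47],[39,28,40,30,32,46,11,26],[39,28,40,30,46,32,11,43],[39,29,13,6,26,32,12,43],[39,29,13,6,32,26,12,46],[39,29,36,24,26,47,12,25],[39,29,36,24,47,26,12,46],[39,29,40,31,32,47,12,25],[39,29,40,31,47,32,12,43],[39,35,20,16,25,43,18,32],[39,35,20,16,43,25,18,47],[39,35,28,23,25,46,18,26],[39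,35,28,23,46,25,18,47],[39,35,44,41,43,46,18,26],[39,35,44,41,46,43,18,32],[39,36,20,17,26,43,19,32],[39,36,20,17,43,26,19,46],[39,36,29,24,26,47,19,25],[39,36,29,24,47,26,19,46],[39,36,44,42,43,47,19,25],[39,36,44,42,47,43,19,32],[39,40,28,30,32,46,27,26],[39,40,28,30,46,32,27,43],[39,40,29,31,32,47,27,25],[39,40,29,31,47,32,27,43],[39,40,44,45,46,47,27,25],[39,40,44,45,47,46,27,26],[39,44,35,41,43,46,34,26],[39,44,35,41,46,43,34,32],[39,44,36,42,43,47,34,25],[39,44,36,42,47,43,34,32],[39,44,40,45,46,47,34,25],[39,44,40,45,47,46,34,26],[40,14,27,4,30,31,3,46],[40,14,27,4,31,30,3,47],[40,14,28,5,30,32,3,45],[40,14,28,5,32,30,3,47],[40,14,29,6,31,32,3,45],[40,14,29,6,32,31,3,46],[40,27,14,4,30,31,8,46],[40,27,14,4,31,30,8,47],[40,27,37,21,30,45,8,32],[40,27,37,21,45,30,8,47],[40,27,38,22,31,45,8,32],[40,27,38,22,45,31,8,46],[40,28,14,5,30,32,9,45],[40,28,14,5,32,30,9,47],[40,28,37,23,30,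46,9,31],[40,28,37,23,46,30,9,47],[40,28,39,25,32,46,9,31],[40,28,39,25,46,32,9,45],[40,29,14,6,31,32,10,45],[40,29,14,6,32,31,10,46],[40,29,38,24,31,47,10,30],[40,29,38,24,47,31,10,46],[40,29,39,26,32,47,10,30],[40,29,39,26,47,32,10,45],[40,37,27,21,30,45,18,32],[40,37,27,21,45,30,18,47],[40,37,28,23,30,46,18,31],[40,37,28,23,46,30,18,47],[40,37,44,41,45,46,18,31],[40,37,44,41,46,45,18,32],[40,38,27,22,31,45,19,32],[40,38,27,22,45,31,19,46],[40,38,29,24,31,47,19,30],[40,38,29,24,47,31,19,46],[40,38,44,42,45,47,19,30],[40,38,44,42,47,45,19,32],[40,39,28,25,32,46,20,31],[40,39,28,25,46,32,20,45],[40,39,29,26,32,47,20,30],[40,39,29,26,47,32,20,45],[40,39,44,43,46,47,20,30],[40,39,44,43,47,46,20,31],[40,44,37,41,45,46,33,31],[40,44,37,41,46,45,33,32],[40,44,38,42,45,47,33,30],[40,44,38,42,47,45,33,32],[40,44,39,43,46,47,33,30],[40,44,39,43,47,46,33,31],[44,33,34,15,41,42,7,46],[44,33,34,15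,42,41,7,47],[44,33,35,16,41,43,7,45],[44,33,35,16,43,41,7,47],[44,33,36,17,42,43,7,45],[44,33,36,17,43,42,7,46],[44,34,33,15,41,42,8,46],[44,34,33,15,42,41,8,47],[44,34,37,21,41,45,8,43],[44,34,37,21,45,41,8,47],[44,34,38,22,42,45,8,43],[44,34,38,22,45,42,8,46],[44,35,33,16,41,43,9,45],[44,35,33,16,43,41,9,47],[44,35,37,23,41,46,9,42],[44,35,37,23,46,41,9,47],[44,35,39,25,43,46,9,42],[44,35,39,25,46,43,9,45],[44,36,33,17,42,43,10,45],[44,36,33,17,43,42,10,46],[44,36,38,24,42,47,10,41],[44,36,38,24,47,42,10,46],[44,36,39,26,43,47,10,41],[44,36,39,26,47,43,10,45],[44,37,34,21,41,45,11,43],[44,37,34,21,45,41,11,47],[44,37,35,23,41,46,11,42],[44,37,35,23,46,41,11,47],[44,37,40,30,45,46,11,42],[44,37,40,30,46,45,11,43],[44,38,34,22,42,45,12,43],[44,38,34,22,45,42,12,46],[44,38,36,24,42,47,12,41],[44,38,36,24,47,42,12,46],[44,38,40,31,45,47,12,41],[44,38,40,31,47,45,12,43],[44,39,35,25,43,46,13,42],[44,39,35,25,46,43,13,45],[44,39,36,26,43,47,13,41],[44,39,36,26,47,43,13,45],[44,39,40,32,46,47,13,41],[44,39,40,32,47,46,13,42],[44,40,37,30,45,46,14,42],[44,40,37,30,46,45,14,43],[44,40,38,31,45,47,14,41],[44,40,38,31,47,45,14,43],[44,40,39,32,46,47,14,41],[44,40,39,32,47,46,14,42]]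

section gen
variable [CharP F 2]

lemma CQ24 (t a b c v1 v2 d : F) : xG checks 24 t * Q6 a b c v1 v2 d * xG checks 24 t = Q6 a b c v1 v2 (v2 * t + d) := by
  have h := word_eq checks (R [0, 0, 0, 0, 0, 0, 0, 0, 0, 0, 0, 0, 0, 0, 0, 0, 0, 0, 0, 0, 0, 0, 0, 0, v1, v2, t, a, b, c, d]) (tab := chevF4.commTerms) (fun _ _ _ _ => rfl) 12 (w₁ := [(24, [[26]]), (39, [[27]]), (40, [[28]]), (44, [[29]]), (45, [[24]]), (46, [[25]]), (47, [[30]]), (24, [[26]])]) (w₂ := [(39, [[27]]), (40, [[28]]), (44, [[29]]), (45, [[24]]), (46, [[25]]), (47, [[25, 26], [30]])]) (by decide +kernel)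
  simpa only [evW, R, evP_cons, evP_nil, evM_cons, evM_nil, List.map_cons, List.map_nil, wordG_cons, wordG_nil, mul_assoc, mul_one, add_zero, xG_zero, one_mul, Q6, VV, RR] using h

lemma CQ25 (t a b c v1 v2 d : F) : xG checks 25 t * Q6 a b c v1 v2 d * xG checks 25 t = Q6 a b c v1 (v1 * t + v2) d := by
  have h := word_eq checks (R [0, 0, 0, 0, 0, 0, 0, 0, 0, 0, 0, 0, 0, 0, 0, 0, 0, 0, 0, 0, 0, 0, 0, 0, v1, v2, t, a, b, c, d]) (tab := chevF4.commTerms) (fun _ _ _ _ => rfl) 12 (w₁ := [(25, [[26]]), (39, [[27]]), (40, [[28]]), (44, [[29]]), (45, [[24]]), (46, [[25]]), (47, [[30]]), (25, [[26]])]) (w₂ := [(39, [[27]]), (40, [[28]]), (44, [[29]]), (45, [[24]]), (46, [[24, 26], [25]]), (47, [[30]])]) (by decide +kernel)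
  simpa only [evW, R, evP_cons, evP_nil, evM_cons, evM_nil, List.map_cons, List.map_nil, wordG_cons, wordG_nil, mul_assoc, mul_one, add_zero, xG_zero, one_mul, Q6, VV, RR] using h

lemma CQ26 (t a b c v1 v2 d : F) : xG checks 26 t * Q6 a b c v1 v2 d * xG checks 26 t = Q6 a b c v1 v2 (v1 * t + d) := by
  have h := word_eq checks (R [0, 0, 0, 0, 0, 0, 0, 0, 0, 0, 0, 0, 0, 0, 0, 0, 0, 0, 0, 0, 0, 0, 0, 0, v1, v2, t, a, b, c, d]) (tab := chevF4.commTerms) (fun _ _ _ _ => rfl) 12 (w₁ := [(26, [[26]]), (39, [[27]]), (40, [[28]]), (44, [[29]]), (45, [[24]]), (46, [[25]]), (47, [[30]]), (26, [[26]])]) (w₂ := [(39, [[27]]), (40, [[28]]), (44, [[29]]), (45, [[24]]), (46, [[25]]), (47, [[24, 26], [30]])]) (by decide +kernel)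
  simpa only [evW, R, evP_cons, evP_nil, evM_cons, evM_nil, List.map_cons, List.map_nil, wordG_cons, wordG_nil, mul_assoc, mul_one, add_zero, xG_zero, one_mul, Q6, VV, RR] using h

lemma CQ27 (t a b c v1 v2 d : F) : xG checks 27 t * Q6 a b c v1 v2 d * xG checks 27 t = Q6 a (t * a + b) c v1 v2 d := by
  have h := word_eq checks (R [0, 0, 0, 0, 0, 0, 0, 0, 0, 0, 0, 0, 0, 0, 0, 0, 0, 0, 0, 0, 0, 0, 0, 0, v1, v2, t, a, b, c, d]) (tab := chevF4.commTerms) (fun _ _ _ _ => rfl) 12 (w₁ := [(27, [[26]]), (39, [[27]]), (40, [[28]]), (44, [[29]]), (45, [[24]]), (46, [[25]]), (47, [[30]]), (27, [[26]])]) (w₂ := [(39, [[27]]), (40, [[26, 27], [28]]), (44, [[29]]), (45, [[24]]), (46, [[25]]), (47, [[30]])]) (by decide +kernel)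
  simpa only [evW, R, evP_cons, evP_nil, evM_cons, evM_nil, List.map_cons, List.map_nil, wordG_cons, wordG_nil, mul_assoc, mul_one, add_zero, xG_zero, one_mul, Q6, VV, RR] using h

lemma CQ28 (t a b c v1 v2 d : F) : xG checks 28 t * Q6 a b c v1 v2 d * xG checks 28 t = Q6 a b c v1 v2 d := by
  have h := word_eq checks (R [0, 0, 0, 0, 0, 0, 0, 0, 0, 0, 0, 0, 0, 0, 0, 0, 0, 0, 0, 0, 0, 0, 0, 0, v1, v2, t, a, b, c, d]) (tab := chevF4.commTerms) (fun _ _ _ _ => rfl) 12 (w₁ := [(28, [[26]]), (39, [[27]]), (40, [[28]]), (44, [[29]]), (45, [[24]]), (46, [[25]]), (47, [[30]]), (28, [[26]])]) (w₂ := [(39, [[27]]), (40, [[28]]), (44, [[29]]), (45, [[24]]), (46, [[25]]), (47, [[30]])]) (by decide +kernel)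
  simpa only [evW, R, evP_cons, evP_nil, evM_cons, evM_nil, List.map_cons, List.map_nil, wordG_cons, wordG_nil, mul_assoc, mul_one, add_zero, xG_zero, one_mul, Q6, VV, RR] using h

lemma CQ29 (t a b c v1 v2 d : F) : xG checks 29 t * Q6 a b c v1 v2 d * xG checks 29 t = Q6 a b c v1 v2 d := by
  have h := word_eq checks (R [0, 0, 0, 0, 0, 0, 0, 0, 0, 0, 0, 0, 0, 0, 0, 0, 0, 0, 0, 0, 0, 0, 0, 0, v1, v2, t, a, b, c, d]) (tab := chevF4.commTerms) (fun _ _ _ _ => rfl) 12 (w₁ := [(29, [[26]]), (39, [[27]]), (40, [[28]]), (44, [[29]]), (45, [[24]]), (46, [[25]]), (47, [[30]]), (29, [[26]])]) (w₂ := [(39, [[27]]), (40, [[28]]), (44, [[29]]), (45, [[24]]), (46, [[25]]), (47, [[30]])]) (by decide +kernel)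
  simpa only [evW, R, evP_cons, evP_nil, evM_cons, evM_nil, List.map_cons, List.map_nil, wordG_cons, wordG_nil, mul_assoc, mul_one, add_zero, xG_zero, one_mul, Q6, VV, RR] using h

lemma CQ30 (t a b c v1 v2 d : F) : xG checks 30 t * Q6 a b c v1 v2 d * xG checks 30 t = Q6 a b c v1 v2 d := by
  have h := word_eq checks (R [0, 0, 0, 0, 0, 0, 0, 0, 0, 0, 0, 0, 0, 0, 0, 0, 0, 0, 0, 0, 0, 0, 0, 0, v1, v2, t, a, b, c, d]) (tab := chevF4.commTerms) (fun _ _ _ _ => rfl) 11 (w₁ := [(30, [[26]]), (39, [[27]]), (40, [[28]]), (44, [[29]]), (45, [[24]]), (46, [[25]]), (47, [[30]]), (30, [[26]])]) (w₂ := [(39, [[27]]), (40, [[28]]), (44, [[29]]), (45, [[24]]), (46, [[25]]), (47, [[30]])]) (by decide +kernel)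
  simpa only [evW, R, evP_cons, evP_nil, evM_cons, evM_nil, List.map_cons, List.map_nil, wordG_cons, wordG_nil, mul_assoc, mul_one, add_zero, xG_zero, one_mul, Q6, VV, RR] using h

lemma CQ31 (t a b c v1 v2 d : F) : xG checks 31 t * Q6 a b c v1 v2 d * xG checks 31 t = Q6 a b c v1 v2 d := by
  have h := word_eq checks (R [0, 0, 0, 0, 0, 0, 0, 0, 0, 0, 0, 0, 0, 0, 0, 0, 0, 0, 0, 0, 0, 0, 0, 0, v1, v2, t, a, b, c, d]) (tab := chevF4.commTerms) (fun _ _ _ _ => rfl) 11 (w₁ := [(31, [[26]]), (39, [[27]]), (40, [[28]]), (44, [[29]]), (45, [[24]]), (46, [[25]]), (47, [[30]]), (31, [[26]])]) (w₂ := [(39, [[27]]), (40, [[28]]), (44, [[29]]), (45, [[24]]), (46, [[25]]), (47, [[30]])]) (by decide +kernel)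
  simpa only [evW, R, evP_cons, evP_nil, evM_cons, evM_nil, List.map_cons, List.map_nil, wordG_cons, wordG_nil, mul_assoc, mul_one, add_zero, xG_zero, one_mul, Q6, VV, RR] using h

lemma CQ32 (t a b c v1 v2 d : F) : xG checks 32 t * Q6 a b c v1 v2 d * xG checks 32 t = Q6 a b c v1 v2 d := by
  have h := word_eq checks (R [0, 0, 0, 0, 0, 0, 0, 0, 0, 0, 0, 0, 0, 0, 0, 0, 0, 0, 0, 0, 0, 0, 0, 0, v1, v2, t, a, b, c, d]) (tab := chevF4.commTerms) (fun _ _ _ _ => rfl) 11 (w₁ := [(32, [[26]]), (39, [[27]]), (40, [[28]]), (44, [[29]]), (45, [[24]]), (46, [[25]]), (47, [[30]]), (32, [[26]])]) (w₂ := [(39, [[27]]), (40, [[28]]), (44, [[29]]), (45, [[24]]), (46, [[25]]), (47, [[30]])]) (by decide +kernel)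
  simpa only [evW, R, evP_cons, evP_nil, evM_cons, evM_nil, List.map_cons, List.map_nil, wordG_cons, wordG_nil, mul_assoc, mul_one, add_zero, xG_zero, one_mul, Q6, VV, RR] using h

lemma CQ33 (t a b c v1 v2 d : F) : xG checks 33 t * Q6 a b c v1 v2 d * xG checks 33 t = Q6 a b (t * b + c) v1 v2 d := by
  have h := word_eq checks (R [0, 0, 0, 0, 0, 0, 0, 0, 0, 0, 0, 0, 0, 0, 0, 0, 0, 0, 0, 0, 0, 0, 0, 0, v1, v2, t, a, b, c, d]) (tab := chevF4.commTerms) (fun _ _ _ _ => rfl) 12 (w₁ := [(33, [[26]]), (39, [[27]]), (40, [[28]]), (44, [[29]]), (45, [[24]]), (46, [[25]]), (47, [[30]]), (33, [[26]])]) (w₂ := [(39, [[27]]), (40, [[28]]), (44, [[26, 28], [29]]), (45, [[24]]), (46, [[25]]), (47, [[30]])]) (by decide +kernel)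
  simpa only [evW, R, evP_cons, evP_nil, evM_cons, evM_nil, List.map_cons, List.map_nil, wordG_cons, wordG_nil, mul_assoc, mul_one, add_zero, xG_zero, one_mul, Q6, VV, RR] using h

lemma CQ34 (t a b c v1 v2 d : F) : xG checks 34 t * Q6 a b c v1 v2 d * xG checks 34 t = Q6 a b (t * a + c) v1 v2 d := by
  have h := word_eq checks (R [0, 0, 0, 0, 0, 0, 0, 0, 0, 0, 0, 0, 0, 0, 0, 0, 0, 0, 0, 0, 0, 0, 0, 0, v1, v2, t, a, b, c, d]) (tab := chevF4.commTerms) (fun _ _ _ _ => rfl) 12 (w₁ := [(34, [[26]]), (39, [[27]]), (40, [[28]]), (44, [[29]]), (45, [[24]]), (46, [[25]]), (47, [[30]]), (34, [[26]])]) (w₂ := [(39, [[27]]), (40, [[28]]), (44, [[26, 27], [29]]), (45, [[24]]), (46, [[25]]), (47, [[30]])]) (by decide +kernel)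
  simpa only [evW, R, evP_cons, evP_nil, evM_cons, evM_nil, List.map_cons, List.map_nil, wordG_cons, wordG_nil, mul_assoc, mul_one, add_zero, xG_zero, one_mul, Q6, VV, RR] using h

lemma CQ35 (t a b c v1 v2 d : F) : xG checks 35 t * Q6 a b c v1 v2 d * xG checks 35 t = Q6 a b c v1 v2 d := by
  have h := word_eq checks (R [0, 0, 0, 0, 0, 0, 0, 0, 0, 0, 0, 0, 0, 0, 0, 0, 0, 0, 0, 0, 0, 0, 0, 0, v1, v2, t, a, b, c, d]) (tab := chevF4.commTerms) (fun _ _ _ _ => rfl) 12 (w₁ := [(35, [[26]]), (39, [[27]]), (40, [[28]]), (44, [[29]]), (45, [[24]]), (46, [[25]]), (47, [[30]]), (35, [[26]])]) (w₂ := [(39, [[27]]), (40, [[28]]), (44, [[29]]), (45, [[24]]), (46, [[25]]), (47, [[30]])]) (by decide +kernel)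
  simpa only [evW, R, evP_cons, evP_nil, evM_cons, evM_nil, List.map_cons, List.map_nil, wordG_cons, wordG_nil, mul_assoc, mul_one, add_zero, xG_zero, one_mul, Q6, VV, RR] using h

lemma CQ36 (t a b c v1 v2 d : F) : xG checks 36 t * Q6 a b c v1 v2 d * xG checks 36 t = Q6 a b c v1 v2 d := by
  have h := word_eq checks (R [0, 0, 0, 0, 0, 0, 0, 0, 0, 0, 0, 0, 0, 0, 0, 0, 0, 0, 0, 0, 0, 0, 0, 0, v1, v2, t, a, b, c, d]) (tab := chevF4.commTerms) (fun _ _ _ _ => rfl) 12 (w₁ := [(36, [[26]]), (39, [[27]]), (40, [[28]]), (44, [[29]]), (45, [[24]]), (46, [[25]]), (47, [[30]]), (36, [[26]])]) (w₂ := [(39, [[27]]), (40, [[28]]), (44, [[29]]), (45, [[24]]), (46, [[25]]), (47, [[30]])]) (by decide +kernel)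
  simpa only [evW, R, evP_cons, evP_nil, evM_cons, evM_nil, List.map_cons, List.map_nil, wordG_cons, wordG_nil, mul_assoc, mul_one, add_zero, xG_zero, one_mul, Q6, VV, RR] using h

lemma CQ37 (t a b c v1 v2 d : F) : xG checks 37 t * Q6 a b c v1 v2 d * xG checks 37 t = Q6 a b c v1 v2 d := by
  have h := word_eq checks (R [0, 0, 0, 0, 0, 0, 0, 0, 0, 0, 0, 0, 0, 0, 0, 0, 0, 0, 0, 0, 0, 0, 0, 0, v1, v2, t, a, b, c, d]) (tab := chevF4.commTerms) (fun _ _ _ _ => rfl) 12 (w₁ := [(37, [[26]]), (39, [[27]]), (40, [[28]]), (44, [[29]]), (45, [[24]]), (46, [[25]]), (47, [[30]]), (37, [[26]])]) (w₂ := [(39, [[27]]), (40, [[28]]), (44, [[29]]), (45, [[24]]), (46, [[25]]), (47, [[30]])]) (by decide +kernel)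
  simpa only [evW, R, evP_cons, evP_nil, evM_cons, evM_nil, List.map_cons, List.map_nil, wordG_cons, wordG_nil, mul_assoc, mul_one, add_zero, xG_zero, one_mul, Q6, VV, RR] using h

lemma CQ38 (t a b c v1 v2 d : F) : xG checks 38 t * Q6 a b c v1 v2 d * xG checks 38 t = Q6 a b c v1 v2 d := by
  have h := word_eq checks (R [0, 0, 0, 0, 0, 0, 0, 0, 0, 0, 0, 0, 0, 0, 0, 0, 0, 0, 0, 0, 0, 0, 0, 0, v1, v2, t, a, b, c, d]) (tab := chevF4.commTerms) (fun _ _ _ _ => rfl) 12 (w₁ := [(38, [[26]]), (39, [[27]]), (40, [[28]]), (44, [[29]]), (45, [[24]]), (46, [[25]]), (47, [[30]]), (38, [[26]])]) (w₂ := [(39, [[27]]), (40, [[28]]), (44, [[29]]), (45, [[24]]), (46, [[25]]), (47, [[30]])]) (by decide +kernel)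
  simpa only [evW, R, evP_cons, evP_nil, evM_cons, evM_nil, List.map_cons, List.map_nil, wordG_cons, wordG_nil, mul_assoc, mul_one, add_zero, xG_zero, one_mul, Q6, VV, RR] using h

lemma CQ39 (t a b c v1 v2 d : F) : xG checks 39 t * Q6 a b c v1 v2 d * xG checks 39 t = Q6 a b c v1 v2 d := by
  have h := word_eq checks (R [0, 0, 0, 0, 0, 0, 0, 0, 0, 0, 0, 0, 0, 0, 0, 0, 0, 0, 0, 0, 0, 0, 0, 0, v1, v2, t, a, b, c, d]) (tab := chevF4.commTerms) (fun _ _ _ _ => rfl) 11 (w₁ := [(39, [[26]]), (39, [[27]]), (40, [[28]]), (44, [[29]]), (45, [[24]]), (46, [[25]]), (47, [[30]]), (39, [[26]])]) (w₂ := [(39, [[27]]), (40, [[28]]), (44, [[29]]), (45, [[24]]), (46, [[25]]), (47, [[30]])]) (by decide +kernel)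
  simpa only [evW, R, evP_cons, evP_nil, evM_cons, evM_nil, List.map_cons, List.map_nil, wordG_cons, wordG_nil, mul_assoc, mul_one, add_zero, xG_zero, one_mul, Q6, VV, RR] using h

lemma CQ40 (t a b c v1 v2 d : F) : xG checks 40 t * Q6 a b c v1 v2 d * xG checks 40 t = Q6 a b c v1 v2 d := by
  have h := word_eq checks (R [0, 0, 0, 0, 0, 0, 0, 0, 0, 0, 0, 0, 0, 0, 0, 0, 0, 0, 0, 0, 0, 0, 0, 0, v1, v2, t, a, b, c, d]) (tab := chevF4.commTerms) (fun _ _ _ _ => rfl) 11 (w₁ := [(40, [[26]]), (39, [[27]]), (40, [[28]]), (44, [[29]]), (45, [[24]]), (46, [[25]]), (47, [[30]]), (40, [[26]])]) (w₂ := [(39, [[27]]), (40, [[28]]), (44, [[29]]), (45, [[24]]), (46, [[25]]), (47, [[30]])]) (by decide +kernel)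
  simpa only [evW, R, evP_cons, evP_nil, evM_cons, evM_nil, List.map_cons, List.map_nil, wordG_cons, wordG_nil, mul_assoc, mul_one, add_zero, xG_zero, one_mul, Q6, VV, RR] using h

lemma CQ41 (t a b c v1 v2 d : F) : xG checks 41 t * Q6 a b c v1 v2 d * xG checks 41 t = Q6 a b c v1 v2 d := by
  have h := word_eq checks (R [0, 0, 0, 0, 0, 0, 0, 0, 0, 0, 0, 0, 0, 0, 0, 0, 0, 0, 0, 0, 0, 0, 0, 0, v1, v2, t, a, b, c, d]) (tab := chevF4.commTerms) (fun _ _ _ _ => rfl) 11 (w₁ := [(41, [[26]]), (39, [[27]]), (40, [[28]]), (44, [[29]]), (45, [[24]]), (46, [[25]]), (47, [[30]]), (41, [[26]])]) (w₂ := [(39, [[27]]), (40, [[28]]), (44, [[29]]), (45, [[24]]), (46, [[25]]), (47, [[30]])]) (by decide +kernel)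
  simpa only [evW, R, evP_cons, evP_nil, evM_cons, evM_nil, List.map_cons, List.map_nil, wordG_cons, wordG_nil, mul_assoc, mul_one, add_zero, xG_zero, one_mul, Q6, VV, RR] using h

lemma CQ42 (t a b c v1 v2 d : F) : xG checks 42 t * Q6 a b c v1 v2 d * xG checks 42 t = Q6 a b c v1 v2 d := by
  have h := word_eq checks (R [0, 0, 0, 0, 0, 0, 0, 0, 0, 0, 0, 0, 0, 0, 0, 0, 0, 0, 0, 0, 0, 0, 0, 0, v1, v2, t, a, b, c, d]) (tab := chevF4.commTerms) (fun _ _ _ _ => rfl) 11 (w₁ := [(42, [[26]]), (39, [[27]]), (40, [[28]]), (44, [[29]]), (45, [[24]]), (46, [[25]]), (47, [[30]]), (42, [[26]])]) (w₂ := [(39, [[27]]), (40, [[28]]), (44, [[29]]), (45, [[24]]), (46, [[25]]), (47, [[30]])]) (by decide +kernel)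
  simpa only [evW, R, evP_cons, evP_nil, evM_cons, evM_nil, List.map_cons, List.map_nil, wordG_cons, wordG_nil, mul_assoc, mul_one, add_zero, xG_zero, one_mul, Q6, VV, RR] using h

lemma CQ43 (t a b c v1 v2 d : F) : xG checks 43 t * Q6 a b c v1 v2 d * xG checks 43 t = Q6 a b c v1 v2 d := by
  have h := word_eq checks (R [0, 0, 0, 0, 0, 0, 0, 0, 0, 0, 0, 0, 0, 0, 0, 0, 0, 0, 0, 0, 0, 0, 0, 0, v1, v2, t, a, b, c, d]) (tab := chevF4.commTerms) (fun _ _ _ _ => rfl) 11 (w₁ := [(43, [[26]]), (39, [[27]]), (40, [[28]]), (44, [[29]]), (45, [[24]]), (46, [[25]]), (47, [[30]]), (43, [[26]])]) (w₂ := [(39, [[27]]), (40, [[28]]), (44, [[29]]), (45, [[24]]), (46, [[25]]), (47, [[30]])]) (by decide +kernel)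
  simpa only [evW, R, evP_cons, evP_nil, evM_cons, evM_nil, List.map_cons, List.map_nil, wordG_cons, wordG_nil, mul_assoc, mul_one, add_zero, xG_zero, one_mul, Q6, VV, RR] using h

lemma CQ44 (t a b c v1 v2 d : F) : xG checks 44 t * Q6 a b c v1 v2 d * xG checks 44 t = Q6 a b c v1 v2 d := by
  have h := word_eq checks (R [0, 0, 0, 0, 0, 0, 0, 0, 0, 0, 0, 0, 0, 0, 0, 0, 0, 0, 0, 0, 0, 0, 0, 0, v1, v2, t, a, b, c, d]) (tab := chevF4.commTerms) (fun _ _ _ _ => rfl) 11 (w₁ := [(44, [[26]]), (39, [[27]]), (40, [[28]]), (44, [[29]]), (45, [[24]]), (46, [[25]]), (47, [[30]]), (44, [[26]])]) (w₂ := [(39, [[27]]), (40, [[28]]), (44, [[29]]), (45, [[24]]), (46, [[25]]), (47, [[30]])]) (by decide +kernel)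
  simpa only [evW, R, evP_cons, evP_nil, evM_cons, evM_nil, List.map_cons, List.map_nil, wordG_cons, wordG_nil, mul_assoc, mul_one, add_zero, xG_zero, one_mul, Q6, VV, RR] using h

lemma CQ45 (t a b c v1 v2 d : F) : xG checks 45 t * Q6 a b c v1 v2 d * xG checks 45 t = Q6 a b c v1 v2 d := by
  have h := word_eq checks (R [0, 0, 0, 0, 0, 0, 0, 0, 0, 0, 0, 0, 0, 0, 0, 0, 0, 0, 0, 0, 0, 0, 0, 0, v1, v2, t, a, b, c, d]) (tab := chevF4.commTerms) (fun _ _ _ _ => rfl) 11 (w₁ := [(45, [[26]]), (39, [[27]]), (40, [[28]]), (44, [[29]]), (45, [[24]]), (46, [[25]]), (47, [[30]]), (45, [[26]])]) (w₂ := [(39, [[27]]), (40, [[28]]), (44, [[29]]), (45, [[24]]), (46, [[25]]), (47, [[30]])]) (by decide +kernel)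
  simpa only [evW, R, evP_cons, evP_nil, evM_cons, evM_nil, List.map_cons, List.map_nil, wordG_cons, wordG_nil, mul_assoc, mul_one, add_zero, xG_zero, one_mul, Q6, VV, RR] using h

lemma CQ46 (t a b c v1 v2 d : F) : xG checks 46 t * Q6 a b c v1 v2 d * xG checks 46 t = Q6 a b c v1 v2 d := by
  have h := word_eq checks (R [0, 0, 0, 0, 0, 0, 0, 0, 0, 0, 0, 0, 0, 0, 0, 0, 0, 0, 0, 0, 0, 0, 0, 0, v1, v2, t, a, b, c, d]) (tab := chevF4.commTerms) (fun _ _ _ _ => rfl) 11 (w₁ := [(46, [[26]]), (39, [[27]]), (40, [[28]]), (44, [[29]]), (45, [[24]]), (46, [[25]]), (47, [[30]]), (46, [[26]])]) (w₂ := [(39, [[27]]), (40, [[28]]), (44, [[29]]), (45, [[24]]), (46, [[25]]), (47, [[30]])]) (by decide +kernel)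
  simpa only [evW, R, evP_cons, evP_nil, evM_cons, evM_nil, List.map_cons, List.map_nil, wordG_cons, wordG_nil, mul_assoc, mul_one, add_zero, xG_zero, one_mul, Q6, VV, RR] using h

lemma CQ47 (t a b c v1 v2 d : F) : xG checks 47 t * Q6 a b c v1 v2 d * xG checks 47 t = Q6 a b c v1 v2 d := by
  have h := word_eq checks (R [0, 0, 0, 0, 0, 0, 0, 0, 0, 0, 0, 0, 0, 0, 0, 0, 0, 0, 0, 0, 0, 0, 0, 0, v1, v2, t, a, b, c, d]) (tab := chevF4.commTerms) (fun _ _ _ _ => rfl) 11 (w₁ := [(47, [[26]]), (39, [[27]]), (40, [[28]]), (44, [[29]]), (45, [[24]]), (46, [[25]]), (47, [[30]]), (47, [[26]])]) (w₂ := [(39, [[27]]), (40, [[28]]), (44, [[29]]), (45, [[24]]), (46, [[25]]), (47, [[30]])]) (by decide +kernel)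
  simpa only [evW, R, evP_cons, evP_nil, evM_cons, evM_nil, List.map_cons, List.map_nil, wordG_cons, wordG_nil, mul_assoc, mul_one, add_zero, xG_zero, one_mul, Q6, VV, RR] using h

lemma VQ (a b c d : F) : xG checks 27 a * xG checks 25 b * xG checks 34 c * xG checks 26 d * xG checks 39 1 * xG checks 45 1 * xG checks 26 d * xG checks 34 c * xG checks 25 b * xG checks 27 a = Q6 1 a c 1 b d := by
  have h := word_eq checks (R [0, 0, 0, 0, 0, 0, 0, 0, 0, 0, 0, 0, 0, 0, 0, 0, 0, 0, 0, 0, 0, 0, 0, 0, 0, 0, 0, a, b, c, d]) (tab := chevF4.commTerms) (fun _ _ _ _ => rfl) 27 (w₁ := [(27, [[27]]), (25, [[28]]), (34, [[29]]), (26, [[30]]), (39, [[]]), (45, [[]]), (26, [[30]]), (34, [[29]]), (25, [[28]]), (27, [[27]])]) (w₂ := [(39, [[]]), (40, [[27]]), (44, [[29]]), (45, [[]]), (46, [[28]]), (47, [[30]])]) (by decide +kernel)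
  simpa only [evW, R, evP_cons, evP_nil, evM_cons, evM_nil, List.map_cons, List.map_nil, wordG_cons, wordG_nil, mul_assoc, mul_one, add_zero, xG_zero, one_mul, Q6, VV, RR] using h

lemma KF14 (t a b c d : F) : xG checks 14 t * VV a b c d * xG checks 14 t = VV (t * c + a) b c d * RR 0 (t * (b * c)) 0 (t * (t * (b * (c * c)))) 0 (t * (t * (b * (c * (c * d))))) 0 0 0 (t * (b * (c * c))) 0 (t * (b * (c * (c * d)))) 0 0 0 0 0 0 (t * (t * (b * (b * (c * (c * (c * (c * d)))))))) 0 := by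
  have h := word_eq checks (R [0, 0, 0, 0, 0, 0, 0, 0, 0, 0, 0, 0, 0, 0, 0, 0, 0, 0, 0, 0, 0, 0, 0, 0, 0, 0, t, a, b, c, d]) (tab := chevF4.commTerms) (fun _ _ _ _ => rfl) 31 (w₁ := [(14, [[26]]), (27, [[27]]), (25, [[28]]), (34, [[29]]), (26, [[30]]), (14, [[26]])]) (w₂ := [(27, [[26, 29], [27]]), (25, [[28]]), (34, [[29]]), (26, [[30]]), (24, []), (28, [[26, 28, 29]]), (29, []), (30, [[26, 26, 28, 29, 29]]), (31, []), (32, [[26, 26, 28, 29, 29, 30]]), (33, []), (35, []), (36, []), (37, [[26, 28, 29, 29]]), (38, []), (39, [[26, 28, 29, 29, 30]]), (40, []), (41, []), (42, []), (43, []), (44, []), (45, []), (46, [[26, 26, 28, 28, 29, 29, 29, 29, 30]]), (47, [])]) (by decide +kernel)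
  simpa only [evW, R, evP_cons, evP_nil, evM_cons, evM_nil, List.map_cons, List.map_nil, wordG_cons, wordG_nil, mul_assoc, mul_one, add_zero, xG_zero, one_mul, Q6, VV, RR] using h

lemma KF23 (t a b c d : F) : xG checks 23 t * VV a b c d * xG checks 23 t = VV a (t * d + b) c d * RR 0 0 0 0 0 0 0 (t * (c * d)) 0 0 0 0 0 (t * (c * (c * d))) 0 (t * (c * (c * (d * d)))) 0 0 0 0 := by
  have h := word_eq checks (R [0, 0, 0, 0, 0, 0, 0, 0, 0, 0, 0, 0, 0, 0, 0, 0, 0, 0, 0, 0, 0, 0, 0, 0, 0, 0, t, a, b, c, d]) (tab := chevF4.commTerms) (fun _ _ _ _ => rfl) 31 (w₁ := [(23, [[26]]), (27, [[27]]), (25, [[28]]), (34, [[29]]), (26, [[30]]), (23, [[26]])]) (w₂ := [(27, [[27]]), (25, [[26, 30], [28]]), (34, [[29]]), (26, [[30]]), (24, []), (28, []), (29, []), (30, []), (31, []), (32, []), (33, []), (35, [[26, 29, 30]]), (36, []), (37, []), (38, []), (39, []), (40, []), (41, [[26, 29, 29, 30]]), (42, []),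 (43, [[26, 29, 29, 30, 30]]), (44, []), (45, []), (46, []), (47, [])]) (by decide +kernel)
  simpa only [evW, R, evP_cons, evP_nil, evM_cons, evM_nil, List.map_cons, List.map_nil, wordG_cons, wordG_nil, mul_assoc, mul_one, add_zero, xG_zero, one_mul, Q6, VV, RR] using h

lemma KF24 (t a b c d : F) : xG checks 24 t * VV a b c d = VV a b c (t * b + d) * RR t 0 0 0 0 0 0 0 (t * (b * c)) 0 0 0 0 0 (t * (b * (c * c))) 0 0 0 0 0 := by
  have h := word_eq checks (R [0, 0, 0, 0, 0, 0, 0, 0, 0, 0, 0, 0, 0, 0, 0, 0, 0, 0, 0, 0, 0, 0, 0, 0, 0, 0, t, a, b, c, d]) (tab := chevF4.commTerms) (fun _ _ _ _ => rfl) 31 (w₁ := [(24, [[26]]), (27, [[27]]), (25, [[28]]), (34, [[29]]), (26, [[30]])]) (w₂ := [(27, [[27]]), (25, [[28]]), (34, [[29]]), (26, [[26, 28], [30]]), (24, [[26]]), (28, []), (29, []), (30, []), (31, []), (32, []), (33, []), (35, []), (36, [[26, 28, 29]]), (37, []), (38, []), (39, []), (40,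 []), (41, []), (42, [[26, 28, 29, 29]]), (43, []), (44, []), (45, []), (46, []), (47, [])]) (by decide +kernel)
  simpa only [evW, R, evP_cons, evP_nil, evM_cons, evM_nil, List.map_cons, List.map_nil, wordG_cons, wordG_nil, mul_assoc, mul_one, add_zero, xG_zero, one_mul, Q6, VV, RR] using h

lemma KF25 (t a b c d : F) : xG checks 25 t * VV a b c d = VV a (t + b) c d * RR 0 (t * a) 0 (t * (a * a)) 0 (t * (a * (a * d))) 0 0 0 (t * (a * c)) 0 (t * (a * (c * d))) 0 0 0 0 0 0 (t * (t * (a * (a * (c * (c * d)))))) 0 := by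
  have h := word_eq checks (R [0, 0, 0, 0, 0, 0, 0, 0, 0, 0, 0, 0, 0, 0, 0, 0, 0, 0, 0, 0, 0, 0, 0, 0, 0, 0, t, a, b, c, d]) (tab := chevF4.commTerms) (fun _ _ _ _ => rfl) 31 (w₁ := [(25, [[26]]), (27, [[27]]), (25, [[28]]), (34, [[29]]), (26, [[30]])]) (w₂ := [(27, [[27]]), (25, [[26], [28]]), (34, [[29]]), (26, [[30]]), (24, []), (28, [[26, 27]]), (29, []), (30, [[26, 27, 27]]), (31, []), (32, [[26, 27, 27, 30]]), (33, []), (35, []), (36, []), (37, [[26, 27, 29]]), (38, []), (39, [[26, 27, 29, 30]]), (40, []), (41, []), (42, []), (43, []), (44, []), (45, []), (46, [[26, 26, 27, 27, 29, 29, 30]]), (47, [])]) (by decide +kernel)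
  simpa only [evW, R, evP_cons, evP_nil, evM_cons, evM_nil, List.map_cons, List.map_nil, wordG_cons, wordG_nil, mul_assoc, mul_one, add_zero, xG_zero, one_mul, Q6, VV, RR] using h

lemma KF26 (t a b c d : F) : xG checks 26 t * VV a b c d = VV a b c (t + d) * RR 0 0 (t * a) 0 (t * (a * a)) (t * (a * (a * b))) 0 0 (t * c) 0 (t * (a * c)) 0 (t * (a * (a * (b * c)))) 0 (t * (c * c)) 0 0 (t * (a * (a * (b * (c * c))))) 0 (t * (t * (a * (a * (b * (c * c))))) + t * (a * (a * (b * (c * (c * d)))))) := by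
  have h := word_eq checks (R [0, 0, 0, 0, 0, 0, 0, 0, 0, 0, 0, 0, 0, 0, 0, 0, 0, 0, 0, 0, 0, 0, 0, 0, 0, 0, t, a, b, c, d]) (tab := chevF4.commTerms) (fun _ _ _ _ => rfl) 31 (w₁ := [(26, [[26]]), (27, [[27]]), (25, [[28]]), (34, [[29]]), (26, [[30]])]) (w₂ := [(27, [[27]]), (25, [[28]]), (34, [[29]]), (26, [[26], [30]]), (24, []), (28, []), (29, [[26, 27]]), (30, []), (31, [[26, 27, 27]]), (32, [[26, 27, 27, 28]]), (33, []), (35, []), (36, [[26, 29]]), (37, []), (38, [[26, 27, 29]]), (39, []), (40, [[26, 27, 27, 28, 29]]), (41, []), (42, [[26, 29, 29]]), (43, []), (44, []), (45, [[26, 27, 27, 28, 29, 29]]), (46, []), (47, [[26, 26, 27, 27, 28, 29, 29], [26, 27, 27, 28, 29, 29, 30]])]) (by decide +kernel)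
  simpa only [evW, R, evP_cons, evP_nil, evM_cons, evM_nil, List.map_cons, List.map_nil, wordG_cons, wordG_nil, mul_assoc, mul_one, add_zero, xG_zero, one_mul, Q6, VV, RR] using h

lemma KF27 (t a b c d : F) : xG checks 27 t * VV a b c d = VV (t + a) b c d * RR 0 0 0 0 0 0 0 0 0 0 0 0 0 0 0 0 0 0 0 0 := by
  have h := word_eq checks (R [0, 0, 0, 0, 0, 0, 0, 0, 0, 0, 0, 0, 0, 0, 0, 0, 0, 0, 0, 0, 0, 0, 0, 0, 0, 0, t, a, b, c, d]) (tab := chevF4.commTerms) (fun _ _ _ _ => rfl) 31 (w₁ := [(27, [[26]]), (27, [[27]]), (25, [[28]]), (34, [[29]]), (26, [[30]])]) (w₂ := [(27, [[26], [27]]), (25, [[28]]), (34, [[29]]), (26, [[30]]), (24, []), (28, []), (29, []), (30, []), (31, []), (32, []), (33, []), (35, []), (36, []), (37, []), (38, []), (39, []), (40, []), (41, []), (42, []), (43, []), (44, []), (45, []), (46, []), (47, [])]) (by decide +kernel)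
  simpa only [evW, R, evP_cons, evP_nil, evM_cons, evM_nil, List.map_cons, List.map_nil, wordG_cons, wordG_nil, mul_assoc, mul_one, add_zero, xG_zero, one_mul, Q6, VV, RR] using h

lemma KF28 (t a b c d : F) : xG checks 28 t * VV a b c d = VV a b c d * RR 0 t 0 0 0 0 0 0 0 (t * c) 0 (t * (c * d)) 0 0 0 0 0 0 (t * (t * (c * (c * d)))) 0 := by
  have h := word_eq checks (R [0, 0, 0, 0, 0, 0, 0, 0, 0, 0, 0, 0, 0, 0, 0, 0, 0, 0, 0, 0, 0, 0, 0, 0, 0, 0, t, a, b, c, d]) (tab := chevF4.commTerms) (fun _ _ _ _ => rfl) 31 (w₁ := [(28, [[26]]), (27, [[27]]), (25, [[28]]), (34, [[29]]), (26, [[30]])]) (w₂ := [(27, [[27]]), (25, [[28]]), (34, [[29]]), (26, [[30]]), (24, []), (28, [[26]]), (29, []), (30, []), (31, []), (32, []), (33, []), (35, []), (36, []), (37, [[26, 29]]), (38, []), (39, [[26, 29, 30]]), (40, []), (41, []), (42, []), (43, []), (44, []), (45, []), (46, [[26, 26, 29, 29, 30]]), (47,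 [])]) (by decide +kernel)
  simpa only [evW, R, evP_cons, evP_nil, evM_cons, evM_nil, List.map_cons, List.map_nil, wordG_cons, wordG_nil, mul_assoc, mul_one, add_zero, xG_zero, one_mul, Q6, VV, RR] using h

lemma KF29 (t a b c d : F) : xG checks 29 t * VV a b c d = VV a b c d * RR 0 0 t 0 0 0 0 0 0 0 (t * c) 0 0 0 0 0 0 0 0 0 := by
  have h := word_eq checks (R [0, 0, 0, 0, 0, 0, 0, 0, 0, 0, 0, 0, 0, 0, 0, 0, 0, 0, 0, 0, 0, 0, 0, 0, 0, 0, t, a, b, c, d]) (tab := chevF4.commTerms) (fun _ _ _ _ => rfl) 31 (w₁ := [(29, [[26]]), (27, [[27]]), (25, [[28]]), (34, [[29]]), (26, [[30]])]) (w₂ := [(27, [[27]]), (25, [[28]]), (34, [[29]]), (26, [[30]]), (24, []), (28, []), (29, [[26]]), (30, []), (31, []), (32, []), (33, []), (35, []), (36, []), (37, []), (38, [[26, 29]]), (39, []), (40, []), (41, []), (42, []), (43, []), (44, []), (45, []), (46, []), (47, [])]) (by decide +kernel)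
  simpa only [evW, R, evP_cons, evP_nil, evM_cons, evM_nil, List.map_cons, List.map_nil, wordG_cons, wordG_nil, mul_assoc, mul_one, add_zero, xG_zero, one_mul, Q6, VV, RR] using h

lemma KF30 (t a b c d : F) : xG checks 30 t * VV a b c d = VV a b c d * RR 0 0 0 t 0 (t * d) 0 0 0 0 0 0 0 0 0 0 0 0 0 0 := by
  have h := word_eq checks (R [0, 0, 0, 0, 0, 0, 0, 0, 0, 0, 0, 0, 0, 0, 0, 0, 0, 0, 0, 0, 0, 0, 0, 0, 0, 0, t, a, b, c, d]) (tab := chevF4.commTerms) (fun _ _ _ _ => rfl) 31 (w₁ := [(30, [[26]]), (27, [[27]]), (25, [[28]]), (34, [[29]]), (26, [[30]])]) (w₂ := [(27, [[27]]), (25, [[28]]), (34, [[29]]), (26, [[30]]), (24, []), (28, []), (29, []), (30, [[26]]), (31, []), (32, [[26, 30]]), (33, []), (35, []), (36, []), (37, []), (38, []), (39, []), (40, []), (41, []), (42, []), (43, []), (44, []), (45, []), (46, []), (47, [])]) (by decide +kernel)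
  simpa only [evW, R, evP_cons, evP_nil, evM_cons, evM_nil, List.map_cons, List.map_nil, wordG_cons, wordG_nil, mul_assoc, mul_one, add_zero, xG_zero, one_mul, Q6, VV, RR] using h

lemma KF31 (t a b c d : F) : xG checks 31 t * VV a b c d = VV a b c d * RR 0 0 0 0 t (t * b) 0 0 0 0 0 0 (t * (b * c)) 0 0 0 0 (t * (b * (c * c))) 0 (t * (b * (c * (c * d)))) := by
  have h := word_eq checks (R [0, 0, 0, 0, 0, 0, 0, 0, 0, 0, 0, 0, 0, 0, 0, 0, 0, 0, 0, 0, 0, 0, 0, 0, 0, 0, t, a, b, c, d]) (tab := chevF4.commTerms) (fun _ _ _ _ => rfl) 31 (w₁ := [(31, [[26]]), (27, [[27]]), (25, [[28]]), (34, [[29]]), (26, [[30]])]) (w₂ := [(27, [[27]]), (25, [[28]]), (34, [[29]]), (26, [[30]]), (24, []), (28, []), (29, []), (30, []), (31, [[26]]), (32, [[26, 28]]), (33, []), (35, []), (36, []), (37, []), (38, []), (39, []), (40, [[26, 28, 29]]), (41, []), (42, []), (43, []), (44, []), (45, [[26, 28, 29, 29]]),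 (46, []), (47, [[26, 28, 29, 29, 30]])]) (by decide +kernel)
  simpa only [evW, R, evP_cons, evP_nil, evM_cons, evM_nil, List.map_cons, List.map_nil, wordG_cons, wordG_nil, mul_assoc, mul_one, add_zero, xG_zero, one_mul, Q6, VV, RR] using h

lemma KF32 (t a b c d : F) : xG checks 32 t * VV a b c d = VV a b c d * RR 0 0 0 0 0 t 0 0 0 0 0 0 (t * c) 0 0 0 0 (t * (c * c)) 0 (t * (c * (c * d))) := by
  have h := word_eq checks (R [0, 0, 0, 0, 0, 0, 0, 0, 0, 0, 0, 0, 0, 0, 0, 0, 0, 0, 0, 0, 0, 0, 0, 0, 0, 0, t, a, b, c, d]) (tab := chevF4.commTerms) (fun _ _ _ _ => rfl) 31 (w₁ := [(32, [[26]]), (27, [[27]]), (25, [[28]]), (34, [[29]]), (26, [[30]])]) (w₂ := [(27, [[27]]), (25, [[28]]), (34, [[29]]), (26, [[30]]), (24, []), (28, []), (29, []), (30, []), (31, []), (32, [[26]]), (33, []), (35, []), (36, []), (37, []), (38, []), (39, []), (40, [[26, 29]]), (41, []), (42, []), (43, []), (44, []),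 (45, [[26, 29, 29]]), (46, []), (47, [[26, 29, 29, 30]])]) (by decide +kernel)
  simpa only [evW, R, evP_cons, evP_nil, evM_cons, evM_nil, List.map_cons, List.map_nil, wordG_cons, wordG_nil, mul_assoc, mul_one, add_zero, xG_zero, one_mul, Q6, VV, RR] using h

lemma KF33 (t a b c d : F) : xG checks 33 t * VV a b c d = VV a b (t * a + c) d * RR 0 0 0 0 0 0 t (t * (a * b)) 0 0 0 0 0 (t * (t * (a * (a * b)))) 0 (t * (t * (a * (a * (b * d))))) 0 0 0 0 := by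
  have h := word_eq checks (R [0, 0, 0, 0, 0, 0, 0, 0, 0, 0, 0, 0, 0, 0, 0, 0, 0, 0, 0, 0, 0, 0, 0, 0, 0, 0, t, a, b, c, d]) (tab := chevF4.commTerms) (fun _ _ _ _ => rfl) 31 (w₁ := [(33, [[26]]), (27, [[27]]), (25, [[28]]), (34, [[29]]), (26, [[30]])]) (w₂ := [(27, [[27]]), (25, [[28]]), (34, [[26, 27], [29]]), (26, [[30]]), (24, []), (28, []), (29, []), (30, []), (31, []), (32, []), (33, [[26]]), (35, [[26, 27, 28]]), (36, []), (37, []), (38, []), (39, []), (40, []), (41, [[26, 26, 27, 27, 28]]), (42, []), (43, [[26, 26, 27, 27, 28, 30]]), (44, []), (45, []), (46, []), (47, [])]) (by decide +kernel)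
  simpa only [evW, R, evP_cons, evP_nil, evM_cons, evM_nil, List.map_cons, List.map_nil, wordG_cons, wordG_nil, mul_assoc, mul_one, add_zero, xG_zero, one_mul, Q6, VV, RR] using h

lemma KF34 (t a b c d : F) : xG checks 34 t * VV a b c d = VV a b (t + c) d * RR 0 0 0 0 0 0 0 (t * b) 0 0 0 0 0 (t * (t * b)) 0 (t * (t * (b * d))) 0 0 0 0 := by
  have h := word_eq checks (R [0, 0, 0, 0, 0, 0, 0, 0, 0, 0, 0, 0, 0, 0, 0, 0, 0, 0, 0, 0, 0, 0, 0, 0, 0, 0, t, a, b, c, d]) (tab := chevF4.commTerms) (fun _ _ _ _ => rfl) 31 (w₁ := [(34, [[26]]), (27, [[27]]), (25, [[28]]), (34, [[29]]), (26, [[30]])]) (w₂ := [(27, [[27]]), (25, [[28]]), (34, [[26], [29]]), (26, [[30]]), (24, []), (28, []), (29, []), (30, []), (31, []), (32, []), (33, []), (35, [[26, 28]]), (36, []), (37, []), (38, []), (39, []), (40, []), (41, [[26, 26, 28]]), (42, []), (43, [[26, 26, 28, 30]]), (44, []), (45, []), (46, []), (47,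 [])]) (by decide +kernel)
  simpa only [evW, R, evP_cons, evP_nil, evM_cons, evM_nil, List.map_cons, List.map_nil, wordG_cons, wordG_nil, mul_assoc, mul_one, add_zero, xG_zero, one_mul, Q6, VV, RR] using h

lemma KF35 (t a b c d : F) : xG checks 35 t * VV a b c d = VV a b c d * RR 0 0 0 0 0 0 0 t 0 (t * a) 0 (t * (a * d)) 0 0 0 0 0 0 (t * (t * (a * (a * d)))) 0 := by
  have h := word_eq checks (R [0, 0, 0, 0, 0, 0, 0, 0, 0, 0, 0, 0, 0, 0, 0, 0, 0, 0, 0, 0, 0, 0, 0, 0, 0, 0, t, a, b, c, d]) (tab := chevF4.commTerms) (fun _ _ _ _ => rfl) 31 (w₁ := [(35, [[26]]), (27, [[27]]), (25, [[28]]), (34, [[29]]), (26, [[30]])]) (w₂ := [(27, [[27]]), (25, [[28]]), (34, [[29]]), (26, [[30]]), (24, []), (28, []), (29, []), (30, []), (31, []), (32, []), (33, []), (35, [[26]]), (36, []), (37, [[26, 27]]), (38, []), (39, [[26, 27, 30]]), (40, []), (41, []), (42, []), (43, []), (44, []), (45, []), (46, [[26,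 26, 27, 27, 30]]), (47, [])]) (by decide +kernel)
  simpa only [evW, R, evP_cons, evP_nil, evM_cons, evM_nil, List.map_cons, List.map_nil, wordG_cons, wordG_nil, mul_assoc, mul_one, add_zero, xG_zero, one_mul, Q6, VV, RR] using h

lemma KF36 (t a b c d : F) : xG checks 36 t * VV a b c d = VV a b c d * RR 0 0 0 0 0 0 0 0 t 0 (t * a) (t * (a * b)) 0 0 0 0 (t * (a * (b * c))) 0 0 (t * (t * (a * (a * b)))) := by
  have h := word_eq checks (R [0, 0, 0, 0, 0, 0, 0, 0, 0, 0, 0, 0, 0, 0, 0, 0, 0, 0, 0, 0, 0, 0, 0, 0, 0, 0, t, a, b, c, d]) (tab := chevF4.commTerms) (fun _ _ _ _ => rfl) 31 (w₁ := [(36, [[26]]), (27, [[27]]), (25, [[28]]), (34, [[29]]), (26, [[30]])]) (w₂ := [(27, [[27]]), (25, [[28]]), (34, [[29]]), (26, [[30]]), (24, []), (28, []), (29, []), (30, []), (31, []), (32, []), (33, []), (35, []), (36, [[26]]), (37, []), (38, [[26, 27]]), (39, [[26, 27, 28]]), (40, []), (41, []), (42,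 []), (43, []), (44, [[26, 27, 28, 29]]), (45, []), (46, []), (47, [[26, 26, 27, 27, 28]])]) (by decide +kernel)
  simpa only [evW, R, evP_cons, evP_nil, evM_cons, evM_nil, List.map_cons, List.map_nil, wordG_cons, wordG_nil, mul_assoc, mul_one, add_zero, xG_zero, one_mul, Q6, VV, RR] using h

lemma KF37 (t a b c d : F) : xG checks 37 t * VV a b c d = VV a b c d * RR 0 0 0 0 0 0 0 0 0 t 0 (t * d) 0 0 0 0 0 0 (t * (t * d)) 0 := by
  have h := word_eq checks (R [0, 0, 0, 0, 0, 0, 0, 0, 0, 0, 0, 0, 0, 0, 0, 0, 0, 0, 0, 0, 0, 0, 0, 0, 0, 0, t, a, b, c, d]) (tab := chevF4.commTerms) (fun _ _ _ _ => rfl) 31 (w₁ := [(37, [[26]]), (27, [[27]]), (25, [[28]]), (34, [[29]]), (26, [[30]])]) (w₂ := [(27, [[27]]), (25, [[28]]), (34, [[29]]), (26, [[30]]), (24, []), (28, []), (29, []), (30, []), (31, []), (32, []), (33, []), (35, []), (36, []), (37, [[26]]), (38, []), (39, [[26, 30]]), (40, []), (41, []),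 (42, []), (43, []), (44, []), (45, []), (46, [[26, 26, 30]]), (47, [])]) (by decide +kernel)
  simpa only [evW, R, evP_cons, evP_nil, evM_cons, evM_nil, List.map_cons, List.map_nil, wordG_cons, wordG_nil, mul_assoc, mul_one, add_zero, xG_zero, one_mul, Q6, VV, RR] using h

lemma KF38 (t a b c d : F) : xG checks 38 t * VV a b c d = VV a b c d * RR 0 0 0 0 0 0 0 0 0 0 t (t * b) 0 0 0 0 (t * (b * c)) 0 0 (t * (t * b)) := by
  have h := word_eq checks (R [0, 0, 0, 0, 0, 0, 0, 0, 0, 0, 0, 0, 0, 0, 0, 0, 0, 0, 0, 0, 0, 0, 0, 0, 0, 0, t, a, b, c, d]) (tab := chevF4.commTerms) (fun _ _ _ _ => rfl) 31 (w₁ := [(38, [[26]]), (27, [[27]]), (25, [[28]]), (34, [[29]]), (26, [[30]])]) (w₂ := [(27, [[27]]), (25, [[28]]), (34, [[29]]), (26, [[30]]), (24, []), (28, []), (29, []), (30, []), (31, []), (32, []), (33, []), (35, []), (36, []), (37, []), (38, [[26]]), (39, [[26, 28]]), (40, []), (41, []), (42,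 []), (43, []), (44, [[26, 28, 29]]), (45, []), (46, []), (47, [[26, 26, 28]])]) (by decide +kernel)
  simpa only [evW, R, evP_cons, evP_nil, evM_cons, evM_nil, List.map_cons, List.map_nil, wordG_cons, wordG_nil, mul_assoc, mul_one, add_zero, xG_zero, one_mul, Q6, VV, RR] using h

lemma KF39 (t a b c d : F) : xG checks 39 t * VV a b c d = VV a b c d * RR 0 0 0 0 0 0 0 0 0 0 0 t (t * a) 0 0 0 (t * c) 0 0 0 := by
  have h := word_eq checks (R [0, 0, 0, 0, 0, 0, 0, 0, 0, 0, 0, 0, 0, 0, 0, 0, 0, 0, 0, 0, 0, 0, 0, 0, 0, 0, t, a, b, c, d]) (tab := chevF4.commTerms) (fun _ _ _ _ => rfl) 31 (w₁ := [(39, [[26]]), (27, [[27]]), (25, [[28]]), (34, [[29]]), (26, [[30]])]) (w₂ := [(27, [[27]]), (25, [[28]]), (34, [[29]]), (26, [[30]]), (24, []), (28, []), (29, []), (30, []), (31, []), (32, []), (33, []), (35, []), (36, []), (37, []), (38, []), (39, [[26]]), (40, [[26, 27]]), (41, []), (42, []), (43,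 []), (44, [[26, 29]]), (45, []), (46, []), (47, [])]) (by decide +kernel)
  simpa only [evW, R, evP_cons, evP_nil, evM_cons, evM_nil, List.map_cons, List.map_nil, wordG_cons, wordG_nil, mul_assoc, mul_one, add_zero, xG_zero, one_mul, Q6, VV, RR] using h

lemma KF40 (t a b c d : F) : xG checks 40 t * VV a b c d = VV a b c d * RR 0 0 0 0 0 0 0 0 0 0 0 0 t 0 0 0 0 0 0 0 := by
  have h := word_eq checks (R [0, 0, 0, 0, 0, 0, 0, 0, 0, 0, 0, 0, 0, 0, 0, 0, 0, 0, 0, 0, 0, 0, 0, 0, 0, 0, t, a, b, c, d]) (tab := chevF4.commTerms) (fun _ _ _ _ => rfl) 31 (w₁ := [(40, [[26]]), (27, [[27]]), (25, [[28]]), (34, [[29]]), (26, [[30]])]) (w₂ := [(27, [[27]]), (25, [[28]]), (34, [[29]]), (26, [[30]]), (24, []), (28, []), (29, []), (30, []), (31, []), (32, []), (33, []), (35, []), (36, []), (37, []), (38, []), (39, []), (40, [[26]]), (41, []), (42, []), (43, []), (44, []), (45, []), (46, []), (47, [])])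 (by decide +kernel)
  simpa only [evW, R, evP_cons, evP_nil, evM_cons, evM_nil, List.map_cons, List.map_nil, wordG_cons, wordG_nil, mul_assoc, mul_one, add_zero, xG_zero, one_mul, Q6, VV, RR] using h

lemma KF41 (t a b c d : F) : xG checks 41 t * VV a b c d = VV a b c d * RR 0 0 0 0 0 0 0 0 0 0 0 0 0 t 0 (t * d) 0 0 0 0 := by
  have h := word_eq checks (R [0, 0, 0, 0, 0, 0, 0, 0, 0, 0, 0, 0, 0, 0, 0, 0, 0, 0, 0, 0, 0, 0, 0, 0, 0, 0, t, a, b, c, d]) (tab := chevF4.commTerms) (fun _ _ _ _ => rfl) 31 (w₁ := [(41, [[26]]), (27, [[27]]), (25, [[28]]), (34, [[29]]), (26, [[30]])]) (w₂ := [(27, [[27]]), (25, [[28]]), (34, [[29]]), (26, [[30]]), (24, []), (28, []), (29, []), (30, []), (31, []), (32, []), (33, []), (35, []), (36, []), (37, []), (38, []), (39, []), (40, []), (41, [[26]]), (42, []), (43, [[26, 30]]), (44, []), (45, []), (46, []), (47, [])]) (by decide +kernel)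
  simpa only [evW, R, evP_cons, evP_nil, evM_cons, evM_nil, List.map_cons, List.map_nil, wordG_cons, wordG_nil, mul_assoc, mul_one, add_zero, xG_zero, one_mul, Q6, VV, RR] using h

lemma KF42 (t a b c d : F) : xG checks 42 t * VV a b c d = VV a b c d * RR 0 0 0 0 0 0 0 0 0 0 0 0 0 0 t (t * b) 0 0 0 0 := by
  have h := word_eq checks (R [0, 0, 0, 0, 0, 0, 0, 0, 0, 0, 0, 0, 0, 0, 0, 0, 0, 0, 0, 0, 0, 0, 0, 0, 0, 0, t, a, b, c, d]) (tab := chevF4.commTerms) (fun _ _ _ _ => rfl) 31 (w₁ := [(42, [[26]]), (27, [[27]]), (25, [[28]]), (34, [[29]]), (26, [[30]])]) (w₂ := [(27, [[27]]), (25, [[28]]), (34, [[29]]), (26, [[30]]), (24, []), (28, []), (29, []), (30, []), (31, []), (32, []), (33, []), (35, []), (36, []), (37, []), (38, []), (39, []), (40, []), (41, []), (42, [[26]]), (43, [[26, 28]]), (44, []), (45, []), (46, []), (47, [])]) (by decide +kernel)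
  simpa only [evW, R, evP_cons, evP_nil, evM_cons, evM_nil, List.map_cons, List.map_nil, wordG_cons, wordG_nil, mul_assoc, mul_one, add_zero, xG_zero, one_mul, Q6, VV, RR] using h

lemma KF43 (t a b c d : F) : xG checks 43 t * VV a b c d = VV a b c d * RR 0 0 0 0 0 0 0 0 0 0 0 0 0 0 0 t (t * a) (t * (a * a)) (t * (a * (a * b))) (t * (a * (a * d))) := by
  have h := word_eq checks (R [0, 0, 0, 0, 0, 0, 0, 0, 0, 0, 0, 0, 0, 0, 0, 0, 0, 0, 0, 0, 0, 0, 0, 0, 0, 0, t, a, b, c, d]) (tab := chevF4.commTerms) (fun _ _ _ _ => rfl) 31 (w₁ := [(43, [[26]]), (27, [[27]]), (25, [[28]]), (34, [[29]]), (26, [[30]])]) (w₂ := [(27, [[27]]), (25, [[28]]), (34, [[29]]), (26, [[30]]), (24, []), (28, []), (29, []), (30, []), (31, []), (32, []), (33, []), (35, []), (36, []), (37, []), (38, []), (39, []), (40, []), (41, []), (42, []), (43, [[26]]), (44, [[26, 27]]), (45, [[26, 27, 27]]), (46, [[26, 27, 27, 28]]),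 (47, [[26, 27, 27, 30]])]) (by decide +kernel)
  simpa only [evW, R, evP_cons, evP_nil, evM_cons, evM_nil, List.map_cons, List.map_nil, wordG_cons, wordG_nil, mul_assoc, mul_one, add_zero, xG_zero, one_mul, Q6, VV, RR] using h

lemma KF44 (t a b c d : F) : xG checks 44 t * VV a b c d = VV a b c d * RR 0 0 0 0 0 0 0 0 0 0 0 0 0 0 0 0 t 0 0 0 := by
  have h := word_eq checks (R [0, 0, 0, 0, 0, 0, 0, 0, 0, 0, 0, 0, 0, 0, 0, 0, 0, 0, 0, 0, 0, 0, 0, 0, 0, 0, t, a, b, c, d]) (tab := chevF4.commTerms) (fun _ _ _ _ => rfl) 31 (w₁ := [(44, [[26]]), (27, [[27]]), (25, [[28]]), (34, [[29]]), (26, [[30]])]) (w₂ := [(27, [[27]]), (25, [[28]]), (34, [[29]]), (26, [[30]]), (24, []), (28, []), (29, []), (30, []), (31, []), (32, []), (33, []), (35, []), (36, []), (37, []), (38, []), (39, []), (40, []), (41, []), (42, []), (43, []), (44, [[26]]), (45, []), (46, []), (47, [])]) (by decide +kernel)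
  simpa only [evW, R, evP_cons, evP_nil, evM_cons, evM_nil, List.map_cons, List.map_nil, wordG_cons, wordG_nil, mul_assoc, mul_one, add_zero, xG_zero, one_mul, Q6, VV, RR] using h

lemma KF45 (t a b c d : F) : xG checks 45 t * VV a b c d = VV a b c d * RR 0 0 0 0 0 0 0 0 0 0 0 0 0 0 0 0 0 t (t * b) (t * d) := by
  have h := word_eq checks (R [0, 0, 0, 0, 0, 0, 0, 0, 0, 0, 0, 0, 0, 0, 0, 0, 0, 0, 0, 0, 0, 0, 0, 0, 0, 0, t, a, b, c, d]) (tab := chevF4.commTerms) (fun _ _ _ _ => rfl) 31 (w₁ := [(45, [[26]]), (27, [[27]]), (25, [[28]]), (34, [[29]]), (26, [[30]])]) (w₂ := [(27, [[27]]), (25, [[28]]), (34, [[29]]), (26, [[30]]), (24, []), (28, []), (29, []), (30, []), (31, []), (32, []), (33, []), (35, []), (36, []), (37, []), (38, []), (39, []), (40, []), (41, []), (42, []), (43, []), (44, []), (45, [[26]]), (46, [[26, 28]]), (47, [[26, 30]])]) (by decide +kernel)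
  simpa only [evW, R, evP_cons, evP_nil, evM_cons, evM_nil, List.map_cons, List.map_nil, wordG_cons, wordG_nil, mul_assoc, mul_one, add_zero, xG_zero, one_mul, Q6, VV, RR] using h

lemma KF46 (t a b c d : F) : xG checks 46 t * VV a b c d = VV a b c d * RR 0 0 0 0 0 0 0 0 0 0 0 0 0 0 0 0 0 0 t 0 := by
  have h := word_eq checks (R [0, 0, 0, 0, 0, 0, 0, 0, 0, 0, 0, 0, 0, 0, 0, 0, 0, 0, 0, 0, 0, 0, 0, 0, 0, 0, t, a, b, c, d]) (tab := chevF4.commTerms) (fun _ _ _ _ => rfl) 31 (w₁ := [(46, [[26]]), (27, [[27]]), (25, [[28]]), (34, [[29]]), (26, [[30]])]) (w₂ := [(27, [[27]]), (25, [[28]]), (34, [[29]]), (26, [[30]]), (24, []), (28, []), (29, []), (30, []), (31, []), (32, []), (33, []), (35, []), (36, []), (37, []), (38, []), (39, []), (40, []), (41, []), (42, []), (43, []), (44, []), (45, []), (46, [[26]]), (47, [])]) (by decide +kernel)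
  simpa only [evW, R, evP_cons, evP_nil, evM_cons, evM_nil, List.map_cons, List.map_nil, wordG_cons, wordG_nil, mul_assoc, mul_one, add_zero, xG_zero, one_mul, Q6, VV, RR] using h

lemma KF47 (t a b c d : F) : xG checks 47 t * VV a b c d = VV a b c d * RR 0 0 0 0 0 0 0 0 0 0 0 0 0 0 0 0 0 0 0 t := by
  have h := word_eq checks (R [0, 0, 0, 0, 0, 0, 0, 0, 0, 0, 0, 0, 0, 0, 0, 0, 0, 0, 0, 0, 0, 0, 0, 0, 0, 0, t, a, b, c, d]) (tab := chevF4.commTerms) (fun _ _ _ _ => rfl) 31 (w₁ := [(47, [[26]]), (27, [[27]]), (25, [[28]]), (34, [[29]]), (26, [[30]])]) (w₂ := [(27, [[27]]), (25, [[28]]), (34, [[29]]), (26, [[30]]), (24, []), (28, []), (29, []), (30, []), (31, []), (32, []), (33, []), (35, []), (36, []), (37, []), (38, []), (39, []), (40, []), (41, []), (42, []), (43, []), (44, []), (45, []), (46, []), (47, [[26]])]) (by decide +kernel)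
  simpa only [evW, R, evP_cons, evP_nil, evM_cons, evM_nil, List.map_cons, List.map_nil, wordG_cons, wordG_nil, mul_assoc, mul_one, add_zero, xG_zero, one_mul, Q6, VV, RR] using h

end gen

end Cfsg.Agent.H04.Col.F4C
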